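import Cfsg.Agent.Chev.E6Cubic.Root

/-! Checks for the elimination. -/

set_option autoImplicit false
set_option Elab.async false
set_option maxHeartbeats 0
set_option maxRecDepth 20000

namespace Cfsg.Lib.Chev.E6Cubic

/-- Membership. -/
noncomputable def mem (a : ℕ) (L : List ℕ) : Bool := kex (Nat.beq a) L

/-- The single monomial with given first two coordinates has the given third one. -/
def single (u z k : ℕ) (L : List Mon) : Bool :=
  match L.filter (fun e => Nat.beq e.1 u && Nat.beq e.2.1 z) with
  | [e] => Nat.beq e.2.2.1 k && Nat.beq e.2.2.2.natAbs 1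
  | _ => false

/-- One derived invariant set. -/
noncomputable def okClo (S : List ℕ) (acc : List (List ℕ)) (c : Clo) : Bool :=
  Bool.rec
    (Bool.rec
      (Bool.rec
        (Bool.rec false
          (Nat.blt c.x acc.length && Nat.blt c.y acc.length && kall (fun a => mem a c.mem ==
            (mem a (acc.getD c.x []) && mem a (acc.getD c.y []))) (krange 0 27))
          (Nat.beq c.kind 3))
        (Nat.blt c.x acc.length && Nat.blt c.y acc.length &&
          kall (fun e => !(mem e.1 (acc.getD c.x [])) || !(mem e.2.1 (acc.getD c.y [])) || !(mem e.2.2.1 c.mem)) six &&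
          kall (fun k => mem k c.mem || kex (fun w => Nat.beq w.1 k && mem w.2.1 (acc.getD c.x []) &&
            mem w.2.2 (acc.getD c.y []) && Nat.blt w.2.1 27 && Nat.blt w.2.2 27 && single w.2.1 w.2.2 k six) c.wit)
            (krange 0 27))
        (Nat.beq c.kind 2))
      (mem c.x S && mem c.x c.mem && kall (fun a => Nat.beq a c.x) c.mem)
      (Nat.beq c.kind 1))
    (kall (fun a => mem a c.mem) (krange 0 27))
    (Nat.beq c.kind 0)

/-- A list of derived invariant sets, and the last one. -/
noncomputable def okClos (S : List ℕ) (v : ℕ) : List Clo → List (List ℕ) → Bool :=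
  @List.rec Clo (fun _ => List (List ℕ) → Bool) (fun acc => mem v (acc.getLastD []))
    (fun c _ ih acc => okClo S acc c && ih (acc ++ [c.mem]))

/-- The coordinates forced to vanish. -/
noncomputable def zeroSet (st : Step) : ℕ → Bool :=
  fun u => !(mem u (((st.sets.map fun c => c.mem)).getLastD []))

/-- The root fixes the fixed lines. -/
noncomputable def noSrc (S : List ℕ) (r : ℕ) : Bool := kall (fun e => !(mem e.1 S)) (ent r)

/-- The entries into `b` are the single one from `u`. -/
def oneInto (r u b : ℕ) : Bool :=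
  match into r b with
  | [e] => Nat.beq e.1 u && Nat.beq e.2.2.natAbs 1
  | _ => false

/-- The moves lead to `v`. -/
noncomputable def okPath (S : List ℕ) : List (ℕ × ℕ × ℕ) → List ℕ → Bool :=
  @List.rec (ℕ × ℕ × ℕ) (fun _ => List ℕ → Bool) (fun _ => true)
    (fun p _ ih acc => Nat.blt p.2.1 72 && Nat.blt p.2.2 27 && noSrc S p.2.1 && oneInto p.2.1 p.1 p.2.2 &&
      mem p.2.2 acc && ih (p.1 :: acc))

/-- Some coordinate that can be moved to `v` is nonzero. -/
noncomputable def okWit (S : List ℕ) (Z : ℕ → Bool) (R : List ℕ) (v : ℕ) : Wit → Bool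
  | .any => kall (fun u => mem u S || Z u || mem u R) (krange 0 27)
  | .adj i k => mem i S && Nat.blt i 27 && Nat.blt k 27 && single i k v six &&
      kall (fun e => !(Nat.beq e.1 i) || Z e.2.2.1 || mem e.2.2.1 R) six
  | .pair i j => mem i S && mem j S && single i j v six && Nat.blt i 27 && Nat.blt j 27

/-- The clearing moves. -/
noncomputable def okClear (S : List ℕ) (Z : ℕ → Bool) (v : ℕ) : List (ℕ × ℕ) → List ℕ → Bool :=
  @List.rec (ℕ × ℕ) (fun _ => List ℕ → Bool) (fun _ => true)
    (fun p _ ih acc => Nat.blt p.1 72 && Nat.blt p.2 27 && noSrc S p.1 && oneInto p.1 v p.2 &&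
      (into p.1 v).isEmpty && !(Nat.beq p.2 v) &&
      kall (fun c => kall (fun e => Z e.1 || mem e.1 acc) (into p.1 c)) acc && ih (p.2 :: acc))

/-- The monomials of an equation not known to vanish. -/
noncomputable def live (Z : ℕ → Bool) (acc : List ℕ) (q : ℕ) : List Mon :=
  dmons.filter fun e => Nat.beq e.2.2.1 q && !(Z e.1 || mem e.1 acc || (Z e.2.1 || mem e.2.1 acc))

/-- The propagation. -/
noncomputable def okProp (Z : ℕ → Bool) (v : ℕ) : List (ℕ × ℕ) → List ℕ → Bool :=
  @List.rec (ℕ × ℕ) (fun _ => List ℕ → Bool)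
    (fun acc => kall (fun u => Nat.beq u v || Z u || mem u acc) (krange 0 27))
    (fun p _ ih acc => Nat.blt p.1 27 && !(Nat.beq p.2 v) &&
      (match live Z acc p.1 with
      | [e] => Nat.beq e.2.2.2.natAbs 1 &&
          ((Nat.beq e.1 v && Nat.beq e.2.1 p.2) || (Nat.beq e.2.1 v && Nat.beq e.1 p.2))
      | _ => false) && ih (p.2 :: acc))

/-- One step. -/
noncomputable def okStep (S : List ℕ) (st : Step) : Bool :=
  Nat.blt st.v 27 && !(mem st.v S) && okClos S st.v st.sets [] && okPath S st.path [st.v] &&
    okWit S (zeroSet st) (st.v :: st.path.map fun p => p.1) st.v st.wit &&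
    okClear S (zeroSet st) st.v st.clear [] &&
    okProp (zeroSet st) st.v st.prop (st.clear.map fun p => p.2).reverse

/-- All steps. -/
noncomputable def okSteps : List Step → List ℕ → Bool :=
  @List.rec Step (fun _ => List ℕ → Bool) (fun S => kall (fun u => mem u S) (krange 0 27))
    (fun st _ ih S => okStep S st && ih (st.v :: S))

theorem okSteps_all : okSteps steps [] = true := by decide +kernel

theorem mons_lt : (kall (fun m => Nat.blt m.1 27 && Nat.blt m.2.1 27 && Nat.blt m.2.2.1 27) dmons &&
    kall (fun m => Nat.blt m.1 27 && Nat.blt m.2.1 27 && Nat.blt m.2.2.1 27) six) = true := by decide +kernel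

end Cfsg.Lib.Chev.E6Cubic
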