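import Cfsg.Agent.Chev.E6Cubic.Defs

/-! Tables for the cubic form in 27 variables and type E6. -/

set_option autoImplicit false
set_option maxRecDepth 4000

namespace Cfsg.Lib.Chev.E6Cubic

/-- The 45 monomials of the cubic form. -/
def mons : List Mon := [(0, 4, 8, 1), (0, 5, 7, (-1)), (1, 3, 8, (-1)), (1, 5, 6, 1), (2, 3, 7, 1), (2, 4, 6, (-1)), (9, 13, 17, 1), (9, 14, 16, (-1)), (10, 12, 17, (-1)), (10, 14, 15, 1), (11, 12, 16, 1), (11, 13, 15, (-1)), (18, 22, 26, 1), (18, 23, 25, (-1)), (19, 21, 26, (-1)), (19, 23, 24, 1), (20, 21, 25, 1), (20, 22, 24, (-1)), (0, 9, 18, (-1)), (0, 10, 21, (-1)), (0, 11, 24, (-1)), (1, 12, 18, (-1)), (1, 13, 21, (-1)), (1, 14, 24, (-1)), (2, 15, 18, (-1)), (2, 16, 21, (-1)), (2, 17, 24, (-1)), (3, 9, 19, (-1)), (3, 10, 22, (-1)), (3, 11, 25, (-1)), (4, 12, 19, (-1)), (4, 13, 22, (-1)), (4, 14, 25, (-1)), (5, 15, 19, (-1)), (5, 16, 22, (-1)), (5,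 17, 25, (-1)), (6, 9, 20, (-1)), (6, 10, 23, (-1)), (6, 11, 26, (-1)), (7, 12, 20, (-1)), (7, 13, 23, (-1)), (7, 14, 26, (-1)), (8, 15, 20, (-1)), (8, 16, 23, (-1)), (8, 17, 26, (-1))]

/-- The entries of the root operators: source, target, sign. -/
def ents : List (List Ent) := [[(0, 22, 1), (3, 21, (-1)), (13, 8, 1), (16, 7, (-1)), (20, 11, (-1)), (26, 9, 1)], [(0, 19, 1), (3, 18, (-1)), (12, 8, 1), (15, 7, (-1)), (23, 11, 1), (26, 10, (-1))], [(0, 2, 1), (3, 5, 1), (6, 8, 1), (15, 9, (-1)), (16, 10, (-1)), (17, 11, (-1))], [(0, 14, 1), (1, 11, (-1)), (15, 21, 1), (16, 18, (-1)), (25, 8, 1), (26, 5, (-1))], [(3, 14, 1), (4, 11, (-1)), (15, 22, 1), (16, 19, (-1)), (24, 8, (-1)), (26, 2, 1)], [(0, 1, (-1)), (3, 4, (-1)), (6, 7, (-1)), (12, 9, 1), (13, 10, 1), (14, 11, 1)], [(0, 17, 1), (2, 11, (-1)), (12, 21, (-1)), (13, 18, 1), (25, 7, (-1)), (26, 4, 1)], [(3, 17, 1), (5, 11, (-1)),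 (12, 22, (-1)), (13, 19, 1), (24, 7, 1), (26, 1, (-1))], [(0, 23, 1), (6, 21, (-1)), (13, 5, (-1)), (16, 4, 1), (19, 11, 1), (25, 9, (-1))], [(3, 23, 1), (6, 22, (-1)), (13, 2, 1), (16, 1, (-1)), (18, 11, (-1)), (24, 9, 1)], [(10, 11, 1), (13, 14, 1), (16, 17, 1), (24, 21, (-1)), (25, 22, (-1)), (26, 23, (-1))], [(0, 20, 1), (6, 18, (-1)), (12, 5, (-1)), (15, 4, 1), (22, 11, (-1)), (25, 10, 1)], [(3, 20, 1), (6, 19, (-1)), (12, 2, 1), (15, 1, (-1)), (21, 11, 1), (24, 10, (-1))], [(9, 11, 1), (12, 14, 1), (15, 17, 1), (24, 18, (-1)), (25, 19, (-1)), (26, 20, (-1))], [(6, 14, 1), (7, 11, (-1)), (15, 23, 1), (16, 20, (-1)), (24, 5, 1), (25, 2, (-1))], [(6, 17, 1), (8, 11, (-1)), (12, 23, (-1)), (13, 20, 1), (24, 4, (-1)), (25, 1, 1)], [(0, 25, (-1)), (3, 24, 1), (14, 8, (-1)), (17, 7, 1), (20, 10, (-1)), (23, 9, 1)], [(0, 6, 1), (1, 7, 1), (2, 8, 1), (20, 18, (-1)), (23, 21, (-1)), (26,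 24, (-1))], [(3, 6, 1), (4, 7, 1), (5, 8, 1), (20, 19, (-1)), (23, 22, (-1)), (26, 25, (-1))], [(0, 12, (-1)), (1, 9, 1), (16, 24, (-1)), (17, 21, 1), (19, 8, (-1)), (20, 5, 1)], [(3, 12, (-1)), (4, 9, 1), (16, 25, (-1)), (17, 22, 1), (18, 8, 1), (20, 2, (-1))], [(1, 22, 1), (4, 21, (-1)), (10, 8, (-1)), (16, 6, 1), (20, 14, (-1)), (26, 12, 1)], [(0, 15, (-1)), (2, 9, 1), (13, 24, 1), (14, 21, (-1)), (19, 7, 1), (20, 4, (-1))], [(3, 15, (-1)), (5, 9, 1), (13, 25, 1), (14, 22, (-1)), (18, 7, (-1)), (20, 1, 1)], [(2, 22, 1), (5, 21, (-1)), (10, 7, 1), (13, 6, (-1)), (20, 17, (-1)), (26, 15, 1)], [(10, 9, 1), (13, 12, 1), (16, 15, 1), (18, 21, (-1)), (19, 22, (-1)), (20, 23, (-1))], [(0, 13, 1), (1, 10, (-1)), (15, 24, (-1)), (17, 18, 1), (22, 8, 1), (23, 5, (-1))], [(3, 13, 1), (4, 10, (-1)), (15, 25, (-1)), (17, 19, 1), (21, 8, (-1)), (23, 2, 1)], [(1, 19, 1), (4, 18, (-1)), (9, 8, (-1)),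 (15, 6, 1), (23, 14, 1), (26, 13, (-1))], [(1, 2, 1), (4, 5, 1), (7, 8, 1), (15, 12, (-1)), (16, 13, (-1)), (17, 14, (-1))], [(0, 16, (-1)), (2, 10, 1), (12, 24, (-1)), (14, 18, 1), (22, 7, 1), (23, 4, (-1))], [(3, 16, (-1)), (5, 10, 1), (12, 25, (-1)), (14, 19, 1), (21, 7, (-1)), (23, 1, 1)], [(2, 19, (-1)), (5, 18, 1), (9, 7, (-1)), (12, 6, 1), (23, 17, (-1)), (26, 16, 1)], [(0, 26, (-1)), (6, 24, 1), (14, 5, 1), (17, 4, (-1)), (19, 10, 1), (22, 9, (-1))], [(3, 26, (-1)), (6, 25, 1), (14, 2, (-1)), (17, 1, 1), (18, 10, (-1)), (21, 9, 1)], [(0, 3, 1), (1, 4, 1), (2, 5, 1), (19, 18, (-1)), (22, 21, (-1)), (25, 24, (-1))], [(3, 0, 1), (4, 1, 1), (5, 2, 1), (18, 19, (-1)), (21, 22, (-1)), (24, 25, (-1))], [(1, 17, 1), (2, 14, (-1)), (9, 21, 1), (10, 18, (-1)), (25, 6, 1), (26, 3, (-1))], [(4, 17, (-1)), (5, 14, 1), (9, 22, (-1)), (10, 19, 1), (24, 6, 1), (26, 0, (-1))], [(6, 12, 1), (7,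 9, (-1)), (16, 26, 1), (17, 23, (-1)), (18, 5, 1), (19, 2, (-1))], [(1, 23, 1), (7, 21, (-1)), (10, 5, 1), (16, 3, (-1)), (19, 14, 1), (25, 12, (-1))], [(4, 23, (-1)), (7, 22, 1), (10, 2, 1), (16, 0, (-1)), (18, 14, 1), (24, 12, (-1))], [(2, 1, 1), (5, 4, 1), (8, 7, 1), (12, 15, (-1)), (13, 16, (-1)), (14, 17, (-1))], [(6, 15, 1), (8, 9, (-1)), (13, 26, (-1)), (14, 23, 1), (18, 4, (-1)), (19, 1, 1)], [(2, 23, 1), (8, 21, (-1)), (10, 4, (-1)), (13, 3, 1), (19, 17, 1), (25, 15, (-1))], [(5, 23, (-1)), (8, 22, 1), (10, 1, (-1)), (13, 0, 1), (18, 17, 1), (24, 15, (-1))], [(9, 10, 1), (12, 13, 1), (15, 16, 1), (21, 18, (-1)), (22, 19, (-1)), (23, 20, (-1))], [(6, 13, (-1)), (7, 10, 1), (15, 26, 1), (17, 20, (-1)), (21, 5, (-1)), (22, 2, 1)], [(1, 20, 1), (7, 18, (-1)), (9, 5, 1), (15, 3, (-1)), (22, 14, (-1)), (25, 13, 1)], [(4, 20, (-1)), (7, 19, 1), (9, 2, 1), (15, 0, (-1)), (21, 14, (-1)),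 (24, 13, 1)], [(6, 16, 1), (8, 10, (-1)), (12, 26, 1), (14, 20, (-1)), (21, 4, (-1)), (22, 1, 1)], [(2, 20, (-1)), (8, 18, 1), (9, 4, 1), (12, 3, (-1)), (22, 17, 1), (25, 16, (-1))], [(5, 20, 1), (8, 19, (-1)), (9, 1, 1), (12, 0, (-1)), (21, 17, 1), (24, 16, (-1))], [(6, 3, 1), (7, 4, 1), (8, 5, 1), (19, 20, (-1)), (22, 23, (-1)), (25, 26, (-1))], [(6, 0, 1), (7, 1, 1), (8, 2, 1), (18, 20, (-1)), (21, 23, (-1)), (24, 26, (-1))], [(7, 17, 1), (8, 14, (-1)), (9, 23, 1), (10, 20, (-1)), (24, 3, 1), (25, 0, (-1))], [(1, 25, 1), (4, 24, (-1)), (11, 8, (-1)), (17, 6, 1), (20, 13, 1), (23, 12, (-1))], [(2, 25, (-1)), (5, 24, 1), (11, 7, (-1)), (14, 6, 1), (20, 16, (-1)), (23, 15, 1)], [(11, 9, 1), (14, 12, 1), (17, 15, 1), (18, 24, (-1)), (19, 25, (-1)), (20, 26, (-1))], [(1, 15, (-1)), (2, 12, 1), (10, 24, (-1)), (11, 21, 1), (19, 6, (-1)), (20, 3, 1)], [(4, 15, 1), (5, 12, (-1)), (10, 25,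 1), (11, 22, (-1)), (18, 6, (-1)), (20, 0, 1)], [(11, 10, 1), (14, 13, 1), (17, 16, 1), (21, 24, (-1)), (22, 25, (-1)), (23, 26, (-1))], [(1, 16, (-1)), (2, 13, 1), (9, 24, 1), (11, 18, (-1)), (22, 6, (-1)), (23, 3, 1)], [(4, 16, 1), (5, 13, (-1)), (9, 25, (-1)), (11, 19, 1), (21, 6, (-1)), (23, 0, 1)], [(1, 26, (-1)), (7, 24, 1), (11, 5, (-1)), (17, 3, 1), (19, 13, 1), (22, 12, (-1))], [(4, 26, 1), (7, 25, (-1)), (11, 2, (-1)), (17, 0, 1), (18, 13, 1), (21, 12, (-1))], [(1, 0, (-1)), (4, 3, (-1)), (7, 6, (-1)), (9, 12, 1), (10, 13, 1), (11, 14, 1)], [(2, 26, 1), (8, 24, (-1)), (11, 4, (-1)), (14, 3, 1), (19, 16, (-1)), (22, 15, 1)], [(5, 26, (-1)), (8, 25, 1), (11, 1, (-1)), (14, 0, 1), (18, 16, (-1)), (21, 15, 1)], [(2, 0, 1), (5, 3, 1), (8, 6, 1), (9, 15, (-1)), (10, 16, (-1)), (11, 17, (-1))], [(7, 15, (-1)), (8, 12, 1), (10, 26, (-1)), (11, 23, 1), (18, 3, (-1)), (19, 0, 1)], [(7,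 16, (-1)), (8, 13, 1), (9, 26, 1), (11, 20, (-1)), (21, 3, (-1)), (22, 0, 1)]]

/-- Step 0. -/
def step0 : Step where
  v := 0
  wit := Wit.any
  sets := [{ kind := 0, x := 0, y := 0, mem := [0, 1, 2, 3, 4, 5, 6, 7, 8, 9, 10, 11, 12, 13, 14, 15, 16, 17, 18, 19, 20, 21, 22, 23, 24, 25, 26], wit := [] }]
  path := [(3, 36, 0), (26, 38, 0), (16, 41, 0), (13, 45, 0), (15, 49, 0), (12, 52, 0), (6, 54, 0), (25, 55, 0), (20, 60, 0), (23, 63, 0), (17, 65, 0), (1, 66, 0), (14, 68, 0), (2, 69, 0), (19, 70, 0), (22, 71, 0), (4, 36, 1), (5, 36, 2), (18, 36, 19), (21, 36, 22), (24, 36, 25), (9, 38, 22), (10, 38, 19), (7, 41, 22), (8, 45, 22), (11, 60, 22)]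
  clear := [(0, 22), (1, 19), (2, 2), (3, 14), (5, 1), (6, 17), (8, 23), (11, 20), (16, 25), (17, 6), (19, 12), (22, 15), (26, 13), (30, 16), (33, 26), (35, 3)]
  prop := [(4, 8), (5, 7), (7, 5), (8, 4), (9, 18), (10, 21), (11, 24), (18, 9), (21, 10), (24, 11)]

/-- Step 1. -/
def step1 : Step where
  v := 4
  wit := Wit.adj 0 8
  sets := [{ kind := 0, x := 0, y := 0, mem := [0, 1, 2, 3, 4, 5, 6, 7, 8, 9, 10, 11, 12, 13, 14, 15, 16, 17, 18, 19, 20, 21, 22, 23, 24, 25, 26], wit := [] }]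
  path := [(24, 15, 4), (5, 42, 4), (18, 43, 4), (10, 44, 4), (21, 50, 4), (9, 51, 4), (7, 53, 4), (11, 67, 4), (8, 15, 11)]
  clear := [(4, 11), (18, 7), (20, 9), (21, 21), (27, 10), (28, 18), (29, 5), (36, 1), (38, 17), (41, 23), (49, 20), (56, 24), (60, 15), (63, 16), (65, 26), (66, 3)]
  prop := [(0, 8), (2, 6), (6, 2), (8, 0), (12, 19), (13, 22), (14, 25), (19, 12), (22, 13), (25, 14)]

/-- Step 2. -/
def step2 : Step where
  v := 8
  wit := Wit.pair 0 4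
  sets := [{ kind := 0, x := 0, y := 0, mem := [0, 1, 2, 3, 4, 5, 6, 7, 8, 9, 10, 11, 12, 13, 14, 15, 16, 17, 18, 19, 20, 21, 22, 23, 24, 25, 26], wit := [] }]
  path := []
  clear := [(15, 11), (42, 7), (43, 9), (44, 21), (45, 22), (50, 10), (51, 18), (52, 19), (53, 5), (54, 2), (55, 14), (67, 24), (68, 25), (69, 6), (70, 12), (71, 13)]
  prop := [(0, 4), (1, 3), (3, 1), (4, 0), (15, 20), (16, 23), (17, 26), (20, 15), (23, 16), (26, 17)]

/-- Step 3. -/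
def step3 : Step where
  v := 1
  wit := Wit.adj 8 3
  sets := [{ kind := 0, x := 0, y := 0, mem := [0, 1, 2, 3, 4, 5, 6, 7, 8, 9, 10, 11, 12, 13, 14, 15, 16, 17, 18, 19, 20, 21, 22, 23, 24, 25, 26], wit := [] }, { kind := 1, x := 0, y := 0, mem := [0], wit := [] }, { kind := 2, x := 0, y := 1, mem := [0, 1, 2, 3, 6, 12, 13, 14, 15, 16, 17, 19, 20, 22, 23, 25, 26], wit := [(4, 8, 0), (5, 7, 0), (7, 5, 0), (8, 4, 0), (9, 18, 0), (10, 21, 0), (11, 24, 0), (18, 9, 0), (21, 10, 0), (24, 11, 0)] }, { kind := 1, x := 4, y := 0, mem := [4], wit := [] }, { kind := 2, x := 0, y := 3, mem := [1, 3, 4, 5, 7, 9, 10, 11, 15, 16, 17, 18, 20, 21, 23, 24, 26], wit := [(0, 8, 4), (2, 6, 4), (6, 2, 4), (8, 0, 4), (12, 19, 4), (13, 22, 4), (14, 25, 4), (19, 12, 4), (22, 13, 4), (25, 14, 4)] }, { kind := 3, x := 2, y := 4, mem := [1, 3, 15, 16, 17, 20, 23, 26], wit := [] }]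
  path := [(26, 7, 1), (16, 9, 1), (15, 12, 1), (20, 23, 1), (23, 31, 1), (17, 34, 1), (3, 7, 17)]
  clear := [(37, 17), (40, 23), (48, 20), (59, 15), (62, 16), (64, 26)]
  prop := [(8, 3)]

/-- Step 4. -/
def step4 : Step where
  v := 3
  wit := Wit.pair 1 8
  sets := [{ kind := 0, x := 0, y := 0, mem := [0, 1, 2, 3, 4, 5, 6, 7, 8, 9, 10, 11, 12, 13, 14, 15, 16, 17, 18, 19, 20, 21, 22, 23, 24, 25, 26], wit := [] }, { kind := 1, x := 0, y := 0, mem := [0], wit := [] }, { kind := 2, x := 0, y := 1, mem := [0, 1, 2, 3, 6, 12, 13, 14, 15, 16, 17, 19, 20, 22, 23, 25, 26], wit := [(4, 8, 0), (5, 7, 0), (7, 5, 0), (8, 4, 0), (9, 18, 0), (10, 21, 0), (11, 24, 0), (18, 9, 0), (21, 10, 0), (24, 11, 0)] }, { kind := 1, x := 4, y := 0, mem := [4], wit := [] }, { kind := 2, x := 0, y := 3, mem := [1, 3, 4, 5, 7, 9, 10, 11, 15, 16, 17, 18, 20, 21, 23, 24, 26], wit := [(0, 8, 4), (2, 6, 4), (6, 2,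 4), (8, 0, 4), (12, 19, 4), (13, 22, 4), (14, 25, 4), (19, 12, 4), (22, 13, 4), (25, 14, 4)] }, { kind := 3, x := 2, y := 4, mem := [1, 3, 15, 16, 17, 20, 23, 26], wit := [] }]
  path := []
  clear := [(7, 17), (9, 23), (12, 20), (23, 15), (31, 16), (34, 26)]
  prop := [(8, 1)]

/-- Step 5. -/
def step5 : Step where
  v := 2
  wit := Wit.adj 3 7
  sets := [{ kind := 0, x := 0, y := 0, mem := [0, 1, 2, 3, 4, 5, 6, 7, 8, 9, 10, 11, 12, 13, 14, 15, 16, 17, 18, 19, 20, 21, 22, 23, 24, 25, 26], wit := [] }, { kind := 1, x := 0, y := 0, mem := [0], wit := [] }, { kind := 2, x := 0, y := 1, mem := [0, 1, 2, 3, 6, 12, 13, 14, 15, 16, 17, 19, 20, 22, 23, 25, 26], wit := [(4, 8, 0), (5, 7, 0), (7, 5, 0), (8, 4, 0), (9, 18, 0), (10, 21, 0), (11, 24, 0), (18, 9, 0), (21, 10, 0), (24, 11, 0)] }, { kind := 1, x := 1, y := 0, mem := [1], wit := [] }, { kind := 2, x := 0, y := 3, mem := [0, 1, 2, 4,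 7, 9, 10, 11, 15, 16, 17, 19, 20, 22, 23, 25, 26], wit := [(3, 8, 1), (5, 6, 1), (6, 5, 1), (8, 3, 1), (12, 18, 1), (13, 21, 1), (14, 24, 1), (18, 12, 1), (21, 13, 1), (24, 14, 1)] }, { kind := 3, x := 2, y := 4, mem := [0, 1, 2, 15, 16, 17, 19, 20, 22, 23, 25, 26], wit := [] }, { kind := 1, x := 8, y := 0, mem := [8], wit := [] }, { kind := 2, x := 0, y := 6, mem := [2, 5, 6, 7, 8, 9, 10, 11, 12, 13, 14, 18, 19, 21, 22, 24, 25], wit := [(0, 4, 8), (1, 3, 8), (3, 1, 8), (4, 0, 8), (15, 20, 8), (16, 23, 8), (17, 26, 8), (20, 15, 8), (23, 16, 8), (26, 17, 8)] }, { kind := 3, x := 5, y := 7, mem := [2, 19, 22, 25], wit := [] }]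
  path := [(25, 14, 2), (19, 39, 2), (22, 47, 2)]
  clear := [(24, 22), (32, 19), (57, 25)]
  prop := []

/-- Step 6. -/
def step6 : Step where
  v := 19
  wit := Wit.any
  sets := [{ kind := 0, x := 0, y := 0, mem := [0, 1, 2, 3, 4, 5, 6, 7, 8, 9, 10, 11, 12, 13, 14, 15, 16, 17, 18, 19, 20, 21, 22, 23, 24, 25, 26], wit := [] }, { kind := 1, x := 0, y := 0, mem := [0], wit := [] }, { kind := 2, x := 0, y := 1, mem := [0, 1, 2, 3, 6, 12, 13, 14, 15, 16, 17, 19, 20, 22, 23, 25, 26], wit := [(4, 8, 0), (5, 7, 0), (7, 5, 0), (8, 4, 0), (9, 18, 0), (10, 21, 0), (11, 24, 0), (18, 9, 0), (21, 10, 0), (24, 11, 0)] }, { kind := 1, x := 1, y := 0, mem := [1], wit := [] }, { kind := 2, x := 0, y := 3, mem := [0, 1, 2, 4, 7, 9, 10, 11, 15, 16, 17, 19, 20, 22, 23, 25, 26], wit := [(3, 8, 1), (5, 6, 1), (6, 5, 1), (8, 3, 1), (12, 18, 1), (13, 21, 1), (14, 24, 1), (18, 12, 1), (21, 13, 1), (24, 14,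 1)] }, { kind := 3, x := 2, y := 4, mem := [0, 1, 2, 15, 16, 17, 19, 20, 22, 23, 25, 26], wit := [] }, { kind := 1, x := 2, y := 0, mem := [2], wit := [] }, { kind := 2, x := 0, y := 6, mem := [0, 1, 2, 5, 8, 9, 10, 11, 12, 13, 14, 19, 20, 22, 23, 25, 26], wit := [(3, 7, 2), (4, 6, 2), (6, 4, 2), (7, 3, 2), (15, 18, 2), (16, 21, 2), (17, 24, 2), (18, 15, 2), (21, 16, 2), (24, 17, 2)] }, { kind := 3, x := 5, y := 7, mem := [0, 1, 2, 19, 20, 22, 23, 25, 26], wit := [] }, { kind := 1, x := 8, y := 0, mem := [8], wit := [] }, { kind := 2, x := 0, y := 9, mem := [2, 5, 6, 7, 8, 9, 10, 11, 12, 13, 14, 18, 19, 21, 22, 24, 25], wit := [(0, 4, 8), (1, 3, 8), (3, 1, 8), (4, 0, 8), (15, 20, 8), (16, 23, 8), (17, 26, 8), (20, 15, 8), (23, 16, 8), (26, 17, 8)] }, { kind := 3, x := 8, y := 10, mem := [2, 19, 22, 25], wit := [] }]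
  path := [(25, 13, 19), (22, 46, 19)]
  clear := [(25, 22), (39, 2), (58, 25)]
  prop := []

/-- Step 7. -/
def step7 : Step where
  v := 22
  wit := Wit.any
  sets := [{ kind := 0, x := 0, y := 0, mem := [0, 1, 2, 3, 4, 5, 6, 7, 8, 9, 10, 11, 12, 13, 14, 15, 16, 17, 18, 19, 20, 21, 22, 23, 24, 25, 26], wit := [] }, { kind := 1, x := 0, y := 0, mem := [0], wit := [] }, { kind := 2, x := 0, y := 1, mem := [0, 1, 2, 3, 6, 12, 13, 14, 15, 16, 17, 19, 20, 22, 23, 25, 26], wit := [(4, 8, 0), (5, 7, 0), (7, 5, 0), (8, 4, 0), (9, 18, 0), (10, 21, 0), (11, 24, 0), (18, 9, 0), (21, 10, 0), (24, 11, 0)] }, { kind := 1, x := 1, y := 0, mem := [1], wit := [] }, { kind := 2, x := 0, y := 3, mem := [0, 1, 2, 4, 7, 9, 10, 11, 15, 16, 17, 19, 20, 22, 23, 25, 26], wit := [(3, 8, 1), (5, 6, 1), (6, 5, 1), (8, 3, 1), (12, 18, 1), (13, 21, 1), (14, 24, 1), (18, 12, 1), (21, 13, 1), (24, 14, 1)] }, { kind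 := 3, x := 2, y := 4, mem := [0, 1, 2, 15, 16, 17, 19, 20, 22, 23, 25, 26], wit := [] }, { kind := 1, x := 2, y := 0, mem := [2], wit := [] }, { kind := 2, x := 0, y := 6, mem := [0, 1, 2, 5, 8, 9, 10, 11, 12, 13, 14, 19, 20, 22, 23, 25, 26], wit := [(3, 7, 2), (4, 6, 2), (6, 4, 2), (7, 3, 2), (15, 18, 2), (16, 21, 2), (17, 24, 2), (18, 15, 2), (21, 16, 2), (24, 17, 2)] }, { kind := 3, x := 5, y := 7, mem := [0, 1, 2, 19, 20, 22, 23, 25, 26], wit := [] }, { kind := 1, x := 8, y := 0, mem := [8], wit := [] }, { kind := 2, x := 0, y := 9, mem := [2, 5, 6, 7, 8, 9, 10, 11, 12, 13, 14, 18, 19, 21, 22, 24, 25], wit := [(0, 4, 8), (1, 3, 8), (3, 1, 8), (4, 0, 8), (15, 20, 8), (16, 23, 8), (17, 26, 8), (20, 15, 8), (23, 16, 8), (26, 17, 8)] }, { kind := 3, x := 8, y := 10, mem := [2, 19, 22, 25], wit := [] }]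
  path := [(25, 10, 22)]
  clear := [(46, 19), (47, 2), (61, 25)]
  prop := []

/-- Step 8. -/
def step8 : Step where
  v := 25
  wit := Wit.any
  sets := [{ kind := 0, x := 0, y := 0, mem := [0, 1, 2, 3, 4, 5, 6, 7, 8, 9, 10, 11, 12, 13, 14, 15, 16, 17, 18, 19, 20, 21, 22, 23, 24, 25, 26], wit := [] }, { kind := 1, x := 0, y := 0, mem := [0], wit := [] }, { kind := 2, x := 0, y := 1, mem := [0, 1, 2, 3, 6, 12, 13, 14, 15, 16, 17, 19, 20, 22, 23, 25, 26], wit := [(4, 8, 0), (5, 7, 0), (7, 5, 0), (8, 4, 0), (9, 18, 0), (10, 21, 0), (11, 24, 0), (18, 9, 0), (21, 10, 0), (24, 11, 0)] }, { kind := 1, x := 1, y := 0, mem := [1], wit := [] }, { kind := 2, x := 0, y := 3, mem := [0, 1, 2, 4, 7, 9, 10, 11, 15, 16, 17, 19, 20, 22, 23, 25, 26], wit := [(3, 8, 1), (5, 6, 1), (6, 5, 1), (8, 3, 1), (12, 18, 1), (13, 21, 1), (14, 24, 1), (18, 12, 1), (21, 13, 1), (24, 14, 1)] }, { kind := 3, x :=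 2, y := 4, mem := [0, 1, 2, 15, 16, 17, 19, 20, 22, 23, 25, 26], wit := [] }, { kind := 1, x := 2, y := 0, mem := [2], wit := [] }, { kind := 2, x := 0, y := 6, mem := [0, 1, 2, 5, 8, 9, 10, 11, 12, 13, 14, 19, 20, 22, 23, 25, 26], wit := [(3, 7, 2), (4, 6, 2), (6, 4, 2), (7, 3, 2), (15, 18, 2), (16, 21, 2), (17, 24, 2), (18, 15, 2), (21, 16, 2), (24, 17, 2)] }, { kind := 3, x := 5, y := 7, mem := [0, 1, 2, 19, 20, 22, 23, 25, 26], wit := [] }, { kind := 1, x := 8, y := 0, mem := [8], wit := [] }, { kind := 2, x := 0, y := 9, mem := [2, 5, 6, 7, 8, 9, 10, 11, 12, 13, 14, 18, 19, 21, 22, 24, 25], wit := [(0, 4, 8), (1, 3, 8), (3, 1, 8), (4, 0, 8), (15, 20, 8), (16, 23, 8), (17, 26, 8), (20, 15, 8), (23, 16, 8), (26, 17, 8)] }, { kind := 3, x := 8, y := 10, mem := [2, 19, 22, 25], wit := [] }]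
  path := []
  clear := [(10, 22), (13, 19), (14, 2)]
  prop := []

/-- Step 9. -/
def step9 : Step where
  v := 5
  wit := Wit.adj 25 17
  sets := [{ kind := 0, x := 0, y := 0, mem := [0, 1, 2, 3, 4, 5, 6, 7, 8, 9, 10, 11, 12, 13, 14, 15, 16, 17, 18, 19, 20, 21, 22, 23, 24, 25, 26], wit := [] }, { kind := 1, x := 2, y := 0, mem := [2], wit := [] }, { kind := 2, x := 0, y := 1, mem := [0, 1, 2, 5, 8, 9, 10, 11, 12, 13, 14, 19, 20, 22, 23, 25, 26], wit := [(3, 7, 2), (4, 6, 2), (6, 4, 2), (7, 3, 2), (15, 18, 2), (16, 21, 2), (17, 24, 2), (18, 15, 2), (21, 16, 2), (24, 17, 2)] }, { kind := 1, x := 3, y := 0, mem := [3], wit := [] }, { kind := 2, x := 0, y := 3, mem := [0, 3, 4, 5, 6, 12, 13, 14, 15, 16, 17, 18, 20, 21, 23, 24, 26], wit := [(1, 8, 3), (2, 7, 3), (7, 2, 3), (8, 1, 3), (9, 19, 3), (10, 22, 3), (11, 25, 3), (19, 9, 3), (22, 10, 3), (25, 11, 3)] }, { kind := 3, x := 2, y :=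 4, mem := [0, 5, 12, 13, 14, 20, 23, 26], wit := [] }, { kind := 1, x := 4, y := 0, mem := [4], wit := [] }, { kind := 2, x := 0, y := 6, mem := [1, 3, 4, 5, 7, 9, 10, 11, 15, 16, 17, 18, 20, 21, 23, 24, 26], wit := [(0, 8, 4), (2, 6, 4), (6, 2, 4), (8, 0, 4), (12, 19, 4), (13, 22, 4), (14, 25, 4), (19, 12, 4), (22, 13, 4), (25, 14, 4)] }, { kind := 3, x := 5, y := 7, mem := [5, 20, 23, 26], wit := [] }, { kind := 1, x := 8, y := 0, mem := [8], wit := [] }, { kind := 2, x := 0, y := 9, mem := [2, 5, 6, 7, 8, 9, 10, 11, 12, 13, 14, 18, 19, 21, 22, 24, 25], wit := [(0, 4, 8), (1, 3, 8), (3, 1, 8), (4, 0, 8), (15, 20, 8), (16, 23, 8), (17, 26, 8), (20, 15, 8), (23, 16, 8), (26, 17, 8)] }, { kind := 3, x := 8, y := 10, mem := [5], wit := [] }]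
  path := []
  clear := []
  prop := []

/-- Step 10. -/
def step10 : Step where
  v := 6
  wit := Wit.pair 2 4
  sets := [{ kind := 0, x := 0, y := 0, mem := [0, 1, 2, 3, 4, 5, 6, 7, 8, 9, 10, 11, 12, 13, 14, 15, 16, 17, 18, 19, 20, 21, 22, 23, 24, 25, 26], wit := [] }, { kind := 1, x := 0, y := 0, mem := [0], wit := [] }, { kind := 2, x := 0, y := 1, mem := [0, 1, 2, 3, 6, 12, 13, 14, 15, 16, 17, 19, 20, 22, 23, 25, 26], wit := [(4, 8, 0), (5, 7, 0), (7, 5, 0), (8, 4, 0), (9, 18, 0), (10, 21, 0), (11, 24, 0), (18, 9, 0), (21, 10, 0), (24, 11, 0)] }, { kind := 1, x := 3, y := 0, mem := [3], wit := [] }, { kind := 2, x := 0, y := 3, mem := [0, 3, 4, 5, 6, 12, 13, 14, 15, 16, 17, 18, 20, 21, 23, 24, 26], wit := [(1, 8, 3), (2, 7, 3), (7, 2, 3), (8, 1, 3), (9, 19, 3), (10, 22, 3), (11, 25, 3), (19, 9, 3), (22, 10, 3), (25, 11, 3)] }, { kind := 3, x := 2, y := 4, mem := [0, 3, 6, 12, 13,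 14, 15, 16, 17, 20, 23, 26], wit := [] }, { kind := 1, x := 8, y := 0, mem := [8], wit := [] }, { kind := 2, x := 0, y := 6, mem := [2, 5, 6, 7, 8, 9, 10, 11, 12, 13, 14, 18, 19, 21, 22, 24, 25], wit := [(0, 4, 8), (1, 3, 8), (3, 1, 8), (4, 0, 8), (15, 20, 8), (16, 23, 8), (17, 26, 8), (20, 15, 8), (23, 16, 8), (26, 17, 8)] }, { kind := 3, x := 5, y := 7, mem := [6, 12, 13, 14], wit := [] }, { kind := 1, x := 19, y := 0, mem := [19], wit := [] }, { kind := 2, x := 0, y := 9, mem := [0, 1, 2, 6, 7, 8, 10, 11, 13, 14, 16, 17, 18, 19, 20, 22, 25], wit := [(3, 9, 19), (4, 12, 19), (5, 15, 19), (9, 3, 19), (12, 4, 19), (15, 5, 19), (21, 26, 19), (23, 24, 19), (24, 23, 19), (26, 21, 19)] }, { kind := 3, x := 8, y := 10, mem := [6, 13, 14], wit := [] }, { kind := 1, x := 22, y := 0, mem := [22], wit := [] }, { kind := 2, x := 0, y := 12, mem := [0, 1, 2, 6, 7, 8, 9, 11, 12, 14, 15, 17, 19,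 21, 22, 23, 25], wit := [(3, 10, 22), (4, 13, 22), (5, 16, 22), (10, 3, 22), (13, 4, 22), (16, 5, 22), (18, 26, 22), (20, 24, 22), (24, 20, 22), (26, 18, 22)] }, { kind := 3, x := 11, y := 13, mem := [6, 14], wit := [] }, { kind := 1, x := 25, y := 0, mem := [25], wit := [] }, { kind := 2, x := 0, y := 15, mem := [0, 1, 2, 6, 7, 8, 9, 10, 12, 13, 15, 16, 19, 22, 24, 25, 26], wit := [(3, 11, 25), (4, 14, 25), (5, 17, 25), (11, 3, 25), (14, 4, 25), (17, 5, 25), (18, 23, 25), (20, 21, 25), (21, 20, 25), (23, 18, 25)] }, { kind := 3, x := 14, y := 16, mem := [6], wit := [] }]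
  path := []
  clear := []
  prop := []

/-- Step 11. -/
def step11 : Step where
  v := 7
  wit := Wit.pair 2 3
  sets := [{ kind := 0, x := 0, y := 0, mem := [0, 1, 2, 3, 4, 5, 6, 7, 8, 9, 10, 11, 12, 13, 14, 15, 16, 17, 18, 19, 20, 21, 22, 23, 24, 25, 26], wit := [] }, { kind := 1, x := 1, y := 0, mem := [1], wit := [] }, { kind := 2, x := 0, y := 1, mem := [0, 1, 2, 4, 7, 9, 10, 11, 15, 16, 17, 19, 20, 22, 23, 25, 26], wit := [(3, 8, 1), (5, 6, 1), (6, 5, 1), (8, 3, 1), (12, 18, 1), (13, 21, 1), (14, 24, 1), (18, 12, 1), (21, 13, 1), (24, 14, 1)] }, { kind := 1, x := 4, y := 0, mem := [4], wit := [] }, { kind := 2, x := 0, y := 3, mem := [1, 3, 4, 5, 7, 9, 10, 11, 15, 16, 17, 18, 20, 21, 23, 24, 26], wit := [(0, 8, 4), (2, 6, 4), (6, 2, 4), (8, 0, 4), (12, 19, 4), (13, 22, 4), (14, 25, 4), (19, 12, 4), (22, 13, 4), (25, 14, 4)] }, { kind := 3, x := 2, y := 4, mem := [1, 4, 7, 9,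 10, 11, 15, 16, 17, 20, 23, 26], wit := [] }, { kind := 1, x := 6, y := 0, mem := [6], wit := [] }, { kind := 2, x := 0, y := 6, mem := [0, 3, 6, 7, 8, 12, 13, 14, 15, 16, 17, 18, 19, 21, 22, 24, 25], wit := [(1, 5, 6), (2, 4, 6), (4, 2, 6), (5, 1, 6), (9, 20, 6), (10, 23, 6), (11, 26, 6), (20, 9, 6), (23, 10, 6), (26, 11, 6)] }, { kind := 3, x := 5, y := 7, mem := [7, 15, 16, 17], wit := [] }, { kind := 1, x := 8, y := 0, mem := [8], wit := [] }, { kind := 2, x := 0, y := 9, mem := [2, 5, 6, 7, 8, 9, 10, 11, 12, 13, 14, 18, 19, 21, 22, 24, 25], wit := [(0, 4, 8), (1, 3, 8), (3, 1, 8), (4, 0, 8), (15, 20, 8), (16, 23, 8), (17, 26, 8), (20, 15, 8), (23, 16, 8), (26, 17, 8)] }, { kind := 3, x := 8, y := 10, mem := [7], wit := [] }]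
  path := []
  clear := []
  prop := []

/-- Step 12. -/
def step12 : Step where
  v := 9
  wit := Wit.pair 3 19
  sets := [{ kind := 0, x := 0, y := 0, mem := [0, 1, 2, 3, 4, 5, 6, 7, 8, 9, 10, 11, 12, 13, 14, 15, 16, 17, 18, 19, 20, 21, 22, 23, 24, 25, 26], wit := [] }, { kind := 1, x := 1, y := 0, mem := [1], wit := [] }, { kind := 2, x := 0, y := 1, mem := [0, 1, 2, 4, 7, 9, 10, 11, 15, 16, 17, 19, 20, 22, 23, 25, 26], wit := [(3, 8, 1), (5, 6, 1), (6, 5, 1), (8, 3, 1), (12, 18, 1), (13, 21, 1), (14, 24, 1), (18, 12, 1), (21, 13, 1), (24, 14, 1)] }, { kind := 1, x := 2, y := 0, mem := [2], wit := [] }, { kind := 2, x := 0, y := 3, mem := [0, 1, 2, 5, 8, 9, 10, 11, 12, 13, 14, 19, 20, 22, 23, 25, 26], wit := [(3, 7, 2), (4, 6, 2), (6, 4, 2), (7, 3, 2), (15, 18, 2), (16, 21, 2), (17, 24, 2), (18, 15, 2), (21, 16, 2), (24, 17, 2)] }, { kind := 3, x := 2, y := 4, mem := [0, 1, 2, 9,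 10, 11, 19, 20, 22, 23, 25, 26], wit := [] }, { kind := 1, x := 4, y := 0, mem := [4], wit := [] }, { kind := 2, x := 0, y := 6, mem := [1, 3, 4, 5, 7, 9, 10, 11, 15, 16, 17, 18, 20, 21, 23, 24, 26], wit := [(0, 8, 4), (2, 6, 4), (6, 2, 4), (8, 0, 4), (12, 19, 4), (13, 22, 4), (14, 25, 4), (19, 12, 4), (22, 13, 4), (25, 14, 4)] }, { kind := 3, x := 5, y := 7, mem := [1, 9, 10, 11, 20, 23, 26], wit := [] }, { kind := 1, x := 5, y := 0, mem := [5], wit := [] }, { kind := 2, x := 0, y := 9, mem := [2, 3, 4, 5, 8, 9, 10, 11, 12, 13, 14, 18, 20, 21, 23, 24, 26], wit := [(0, 7, 5), (1, 6, 5), (6, 1, 5), (7, 0, 5), (15, 19, 5), (16, 22, 5), (17, 25, 5), (19, 15, 5), (22, 16, 5), (25, 17, 5)] }, { kind := 3, x := 8, y := 10, mem := [9, 10, 11, 20, 23, 26], wit := [] }, { kind := 1, x := 7, y := 0, mem := [7], wit := [] }, { kind := 2, x := 0, y := 12, mem := [1, 4, 6, 7, 8, 9, 10, 11, 15, 16,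 17, 18, 19, 21, 22, 24, 25], wit := [(0, 5, 7), (2, 3, 7), (3, 2, 7), (5, 0, 7), (12, 20, 7), (13, 23, 7), (14, 26, 7), (20, 12, 7), (23, 13, 7), (26, 14, 7)] }, { kind := 3, x := 11, y := 13, mem := [9, 10, 11], wit := [] }, { kind := 1, x := 22, y := 0, mem := [22], wit := [] }, { kind := 2, x := 0, y := 15, mem := [0, 1, 2, 6, 7, 8, 9, 11, 12, 14, 15, 17, 19, 21, 22, 23, 25], wit := [(3, 10, 22), (4, 13, 22), (5, 16, 22), (10, 3, 22), (13, 4, 22), (16, 5, 22), (18, 26, 22), (20, 24, 22), (24, 20, 22), (26, 18, 22)] }, { kind := 3, x := 14, y := 16, mem := [9, 11], wit := [] }, { kind := 1, x := 25, y := 0, mem := [25], wit := [] }, { kind := 2, x := 0, y := 18, mem := [0, 1, 2, 6, 7, 8, 9, 10, 12, 13, 15, 16, 19, 22, 24, 25, 26], wit := [(3, 11, 25), (4, 14, 25), (5, 17, 25), (11, 3, 25), (14, 4, 25), (17, 5, 25), (18, 23, 25), (20, 21, 25), (21, 20, 25), (23, 18, 25)] }, { kind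 := 3, x := 17, y := 19, mem := [9], wit := [] }]
  path := []
  clear := []
  prop := []

/-- Step 13. -/
def step13 : Step where
  v := 10
  wit := Wit.pair 3 22
  sets := [{ kind := 0, x := 0, y := 0, mem := [0, 1, 2, 3, 4, 5, 6, 7, 8, 9, 10, 11, 12, 13, 14, 15, 16, 17, 18, 19, 20, 21, 22, 23, 24, 25, 26], wit := [] }, { kind := 1, x := 1, y := 0, mem := [1], wit := [] }, { kind := 2, x := 0, y := 1, mem := [0, 1, 2, 4, 7, 9, 10, 11, 15, 16, 17, 19, 20, 22, 23, 25, 26], wit := [(3, 8, 1), (5, 6, 1), (6, 5, 1), (8, 3, 1), (12, 18, 1), (13, 21, 1), (14, 24, 1), (18, 12, 1), (21, 13, 1), (24, 14, 1)] }, { kind := 1, x := 2, y := 0, mem := [2], wit := [] }, { kind := 2, x := 0, y := 3, mem := [0, 1, 2, 5, 8, 9, 10, 11, 12, 13, 14, 19, 20, 22, 23, 25, 26], wit := [(3, 7, 2), (4, 6, 2), (6, 4, 2), (7, 3, 2), (15, 18, 2), (16, 21, 2), (17, 24, 2), (18, 15, 2), (21, 16, 2), (24, 17, 2)] },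 { kind := 3, x := 2, y := 4, mem := [0, 1, 2, 9, 10, 11, 19, 20, 22, 23, 25, 26], wit := [] }, { kind := 1, x := 4, y := 0, mem := [4], wit := [] }, { kind := 2, x := 0, y := 6, mem := [1, 3, 4, 5, 7, 9, 10, 11, 15, 16, 17, 18, 20, 21, 23, 24, 26], wit := [(0, 8, 4), (2, 6, 4), (6, 2, 4), (8, 0, 4), (12, 19, 4), (13, 22, 4), (14, 25, 4), (19, 12, 4), (22, 13, 4), (25, 14, 4)] }, { kind := 3, x := 5, y := 7, mem := [1, 9, 10, 11, 20, 23, 26], wit := [] }, { kind := 1, x := 5, y := 0, mem := [5], wit := [] }, { kind := 2, x := 0, y := 9, mem := [2, 3, 4, 5, 8, 9, 10, 11, 12, 13, 14, 18, 20, 21, 23, 24, 26], wit := [(0, 7, 5), (1, 6, 5), (6, 1, 5), (7, 0, 5), (15, 19, 5), (16, 22, 5), (17, 25, 5), (19, 15, 5), (22, 16, 5), (25, 17, 5)] }, { kind := 3, x := 8, y := 10, mem := [9, 10, 11, 20, 23, 26], wit := [] }, { kind := 1, x := 7, y := 0, mem := [7], wit := [] }, { kind := 2, x := 0,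 y := 12, mem := [1, 4, 6, 7, 8, 9, 10, 11, 15, 16, 17, 18, 19, 21, 22, 24, 25], wit := [(0, 5, 7), (2, 3, 7), (3, 2, 7), (5, 0, 7), (12, 20, 7), (13, 23, 7), (14, 26, 7), (20, 12, 7), (23, 13, 7), (26, 14, 7)] }, { kind := 3, x := 11, y := 13, mem := [9, 10, 11], wit := [] }, { kind := 1, x := 19, y := 0, mem := [19], wit := [] }, { kind := 2, x := 0, y := 15, mem := [0, 1, 2, 6, 7, 8, 10, 11, 13, 14, 16, 17, 18, 19, 20, 22, 25], wit := [(3, 9, 19), (4, 12, 19), (5, 15, 19), (9, 3, 19), (12, 4, 19), (15, 5, 19), (21, 26, 19), (23, 24, 19), (24, 23, 19), (26, 21, 19)] }, { kind := 3, x := 14, y := 16, mem := [10, 11], wit := [] }, { kind := 1, x := 25, y := 0, mem := [25], wit := [] }, { kind := 2, x := 0, y := 18, mem := [0, 1, 2, 6, 7, 8, 9, 10, 12, 13, 15, 16, 19, 22, 24, 25, 26], wit := [(3, 11, 25), (4, 14, 25), (5, 17, 25), (11, 3, 25), (14, 4, 25), (17, 5, 25), (18, 23, 25), (20,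 21, 25), (21, 20, 25), (23, 18, 25)] }, { kind := 3, x := 17, y := 19, mem := [10], wit := [] }]
  path := []
  clear := []
  prop := []

/-- Step 14. -/
def step14 : Step where
  v := 11
  wit := Wit.pair 3 25
  sets := [{ kind := 0, x := 0, y := 0, mem := [0, 1, 2, 3, 4, 5, 6, 7, 8, 9, 10, 11, 12, 13, 14, 15, 16, 17, 18, 19, 20, 21, 22, 23, 24, 25, 26], wit := [] }, { kind := 1, x := 1, y := 0, mem := [1], wit := [] }, { kind := 2, x := 0, y := 1, mem := [0, 1, 2, 4, 7, 9, 10, 11, 15, 16, 17, 19, 20, 22, 23, 25, 26], wit := [(3, 8, 1), (5, 6, 1), (6, 5, 1), (8, 3, 1), (12, 18, 1), (13, 21, 1), (14, 24, 1), (18, 12, 1), (21, 13, 1), (24, 14, 1)] }, { kind := 1, x := 2, y := 0, mem := [2], wit := [] }, { kind := 2, x := 0, y := 3, mem := [0, 1, 2, 5, 8, 9, 10, 11, 12, 13, 14, 19, 20, 22, 23, 25, 26], wit := [(3, 7, 2), (4, 6, 2), (6, 4, 2), (7, 3, 2), (15, 18, 2), (16, 21, 2), (17,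 24, 2), (18, 15, 2), (21, 16, 2), (24, 17, 2)] }, { kind := 3, x := 2, y := 4, mem := [0, 1, 2, 9, 10, 11, 19, 20, 22, 23, 25, 26], wit := [] }, { kind := 1, x := 4, y := 0, mem := [4], wit := [] }, { kind := 2, x := 0, y := 6, mem := [1, 3, 4, 5, 7, 9, 10, 11, 15, 16, 17, 18, 20, 21, 23, 24, 26], wit := [(0, 8, 4), (2, 6, 4), (6, 2, 4), (8, 0, 4), (12, 19, 4), (13, 22, 4), (14, 25, 4), (19, 12, 4), (22, 13, 4), (25, 14, 4)] }, { kind := 3, x := 5, y := 7, mem := [1, 9, 10, 11, 20, 23, 26], wit := [] }, { kind := 1, x := 5, y := 0, mem := [5], wit := [] }, { kind := 2, x := 0, y := 9, mem := [2, 3, 4, 5, 8, 9, 10, 11, 12, 13, 14, 18, 20, 21, 23, 24, 26], wit := [(0, 7, 5), (1, 6, 5), (6, 1, 5), (7, 0, 5), (15, 19, 5), (16, 22, 5), (17, 25, 5), (19, 15, 5), (22, 16, 5), (25, 17, 5)] }, { kind := 3, x := 8, y := 10, mem := [9, 10, 11, 20, 23, 26], wit := [] }, { kind := 1, x := 7, y :=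 0, mem := [7], wit := [] }, { kind := 2, x := 0, y := 12, mem := [1, 4, 6, 7, 8, 9, 10, 11, 15, 16, 17, 18, 19, 21, 22, 24, 25], wit := [(0, 5, 7), (2, 3, 7), (3, 2, 7), (5, 0, 7), (12, 20, 7), (13, 23, 7), (14, 26, 7), (20, 12, 7), (23, 13, 7), (26, 14, 7)] }, { kind := 3, x := 11, y := 13, mem := [9, 10, 11], wit := [] }, { kind := 1, x := 19, y := 0, mem := [19], wit := [] }, { kind := 2, x := 0, y := 15, mem := [0, 1, 2, 6, 7, 8, 10, 11, 13, 14, 16, 17, 18, 19, 20, 22, 25], wit := [(3, 9, 19), (4, 12, 19), (5, 15, 19), (9, 3, 19), (12, 4, 19), (15, 5, 19), (21, 26, 19), (23, 24, 19), (24, 23, 19), (26, 21, 19)] }, { kind := 3, x := 14, y := 16, mem := [10, 11], wit := [] }, { kind := 1, x := 22, y := 0, mem := [22], wit := [] }, { kind := 2, x := 0, y := 18, mem := [0, 1, 2, 6, 7, 8, 9, 11, 12, 14, 15, 17, 19, 21, 22, 23, 25], wit := [(3, 10, 22), (4, 13, 22), (5, 16, 22), (10,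 3, 22), (13, 4, 22), (16, 5, 22), (18, 26, 22), (20, 24, 22), (24, 20, 22), (26, 18, 22)] }, { kind := 3, x := 17, y := 19, mem := [11], wit := [] }]
  path := []
  clear := []
  prop := []

/-- Step 15. -/
def step15 : Step where
  v := 12
  wit := Wit.pair 4 19
  sets := [{ kind := 0, x := 0, y := 0, mem := [0, 1, 2, 3, 4, 5, 6, 7, 8, 9, 10, 11, 12, 13, 14, 15, 16, 17, 18, 19, 20, 21, 22, 23, 24, 25, 26], wit := [] }, { kind := 1, x := 0, y := 0, mem := [0], wit := [] }, { kind := 2, x := 0, y := 1, mem := [0, 1, 2, 3, 6, 12, 13, 14, 15, 16, 17, 19, 20, 22, 23, 25, 26], wit := [(4, 8, 0), (5, 7, 0), (7, 5, 0), (8, 4, 0), (9, 18, 0), (10, 21, 0), (11, 24, 0), (18, 9, 0), (21, 10, 0), (24, 11, 0)] }, { kind := 1, x := 2, y := 0, mem := [2], wit := [] }, { kind := 2, x := 0, y := 3, mem := [0, 1, 2, 5, 8, 9, 10, 11, 12, 13, 14, 19, 20, 22, 23, 25, 26], wit := [(3, 7, 2), (4, 6, 2), (6,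 4, 2), (7, 3, 2), (15, 18, 2), (16, 21, 2), (17, 24, 2), (18, 15, 2), (21, 16, 2), (24, 17, 2)] }, { kind := 3, x := 2, y := 4, mem := [0, 1, 2, 12, 13, 14, 19, 20, 22, 23, 25, 26], wit := [] }, { kind := 1, x := 3, y := 0, mem := [3], wit := [] }, { kind := 2, x := 0, y := 6, mem := [0, 3, 4, 5, 6, 12, 13, 14, 15, 16, 17, 18, 20, 21, 23, 24, 26], wit := [(1, 8, 3), (2, 7, 3), (7, 2, 3), (8, 1, 3), (9, 19, 3), (10, 22, 3), (11, 25, 3), (19, 9, 3), (22, 10, 3), (25, 11, 3)] }, { kind := 3, x := 5, y := 7, mem := [0, 12, 13, 14, 20, 23, 26], wit := [] }, { kind := 1, x := 5, y := 0, mem := [5], wit := [] }, { kind := 2, x := 0, y := 9, mem := [2, 3, 4, 5, 8, 9, 10, 11, 12, 13, 14, 18, 20, 21, 23, 24, 26], wit := [(0, 7, 5), (1, 6, 5), (6, 1, 5), (7, 0, 5), (15, 19, 5), (16, 22, 5), (17, 25, 5), (19, 15, 5), (22, 16, 5), (25, 17, 5)] }, { kind := 3, x := 8, y := 10, mem := [12, 13, 14,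 20, 23, 26], wit := [] }, { kind := 1, x := 6, y := 0, mem := [6], wit := [] }, { kind := 2, x := 0, y := 12, mem := [0, 3, 6, 7, 8, 12, 13, 14, 15, 16, 17, 18, 19, 21, 22, 24, 25], wit := [(1, 5, 6), (2, 4, 6), (4, 2, 6), (5, 1, 6), (9, 20, 6), (10, 23, 6), (11, 26, 6), (20, 9, 6), (23, 10, 6), (26, 11, 6)] }, { kind := 3, x := 11, y := 13, mem := [12, 13, 14], wit := [] }, { kind := 1, x := 9, y := 0, mem := [9], wit := [] }, { kind := 2, x := 0, y := 15, mem := [1, 2, 4, 5, 7, 8, 9, 10, 11, 12, 15, 21, 22, 23, 24, 25, 26], wit := [(0, 18, 9), (3, 19, 9), (6, 20, 9), (13, 17, 9), (14, 16, 9), (16, 14, 9), (17, 13, 9), (18, 0, 9), (19, 3, 9), (20, 6, 9)] }, { kind := 3, x := 14, y := 16, mem := [12], wit := [] }]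
  path := []
  clear := []
  prop := []

/-- Step 16. -/
def step16 : Step where
  v := 13
  wit := Wit.pair 4 22
  sets := [{ kind := 0, x := 0, y := 0, mem := [0, 1, 2, 3, 4, 5, 6, 7, 8, 9, 10, 11, 12, 13, 14, 15, 16, 17, 18, 19, 20, 21, 22, 23, 24, 25, 26], wit := [] }, { kind := 1, x := 0, y := 0, mem := [0], wit := [] }, { kind := 2, x := 0, y := 1, mem := [0, 1, 2, 3, 6, 12, 13, 14, 15, 16, 17, 19, 20, 22, 23, 25, 26], wit := [(4, 8, 0), (5, 7, 0), (7, 5, 0), (8, 4, 0), (9, 18, 0), (10, 21, 0), (11, 24, 0), (18, 9, 0), (21, 10, 0), (24, 11, 0)] }, { kind := 1, x := 2, y := 0, mem := [2], wit := [] }, { kind := 2, x := 0, y := 3, mem := [0, 1, 2, 5, 8, 9, 10, 11, 12, 13, 14, 19, 20, 22, 23, 25, 26], wit := [(3, 7, 2), (4, 6, 2), (6, 4, 2), (7, 3, 2), (15, 18, 2), (16, 21, 2), (17, 24, 2), (18, 15, 2), (21, 16, 2), (24, 17, 2)] }, { kind := 3, x := 2, y := 4, mem := [0, 1, 2, 12,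 13, 14, 19, 20, 22, 23, 25, 26], wit := [] }, { kind := 1, x := 3, y := 0, mem := [3], wit := [] }, { kind := 2, x := 0, y := 6, mem := [0, 3, 4, 5, 6, 12, 13, 14, 15, 16, 17, 18, 20, 21, 23, 24, 26], wit := [(1, 8, 3), (2, 7, 3), (7, 2, 3), (8, 1, 3), (9, 19, 3), (10, 22, 3), (11, 25, 3), (19, 9, 3), (22, 10, 3), (25, 11, 3)] }, { kind := 3, x := 5, y := 7, mem := [0, 12, 13, 14, 20, 23, 26], wit := [] }, { kind := 1, x := 5, y := 0, mem := [5], wit := [] }, { kind := 2, x := 0, y := 9, mem := [2, 3, 4, 5, 8, 9, 10, 11, 12, 13, 14, 18, 20, 21, 23, 24, 26], wit := [(0, 7, 5), (1, 6, 5), (6, 1, 5), (7, 0, 5), (15, 19, 5), (16, 22, 5), (17, 25, 5), (19, 15, 5), (22, 16, 5), (25, 17, 5)] }, { kind := 3, x := 8, y := 10, mem := [12, 13, 14, 20, 23, 26], wit := [] }, { kind := 1, x := 6, y := 0, mem := [6], wit := [] }, { kind := 2, x := 0, y := 12, mem := [0, 3, 6, 7, 8, 12, 13, 14, 15,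 16, 17, 18, 19, 21, 22, 24, 25], wit := [(1, 5, 6), (2, 4, 6), (4, 2, 6), (5, 1, 6), (9, 20, 6), (10, 23, 6), (11, 26, 6), (20, 9, 6), (23, 10, 6), (26, 11, 6)] }, { kind := 3, x := 11, y := 13, mem := [12, 13, 14], wit := [] }, { kind := 1, x := 10, y := 0, mem := [10], wit := [] }, { kind := 2, x := 0, y := 15, mem := [1, 2, 4, 5, 7, 8, 9, 10, 11, 13, 16, 18, 19, 20, 24, 25, 26], wit := [(0, 21, 10), (3, 22, 10), (6, 23, 10), (12, 17, 10), (14, 15, 10), (15, 14, 10), (17, 12, 10), (21, 0, 10), (22, 3, 10), (23, 6, 10)] }, { kind := 3, x := 14, y := 16, mem := [13], wit := [] }]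
  path := []
  clear := []
  prop := []

/-- Step 17. -/
def step17 : Step where
  v := 14
  wit := Wit.pair 4 25
  sets := [{ kind := 0, x := 0, y := 0, mem := [0, 1, 2, 3, 4, 5, 6, 7, 8, 9, 10, 11, 12, 13, 14, 15, 16, 17, 18, 19, 20, 21, 22, 23, 24, 25, 26], wit := [] }, { kind := 1, x := 0, y := 0, mem := [0], wit := [] }, { kind := 2, x := 0, y := 1, mem := [0, 1, 2, 3, 6, 12, 13, 14, 15, 16, 17, 19, 20, 22, 23, 25, 26], wit := [(4, 8, 0), (5, 7, 0), (7, 5, 0), (8, 4, 0), (9, 18, 0), (10, 21, 0), (11, 24, 0), (18, 9, 0), (21, 10, 0), (24, 11, 0)] }, { kind := 1, x := 2, y := 0, mem := [2], wit := [] }, { kind := 2, x := 0, y := 3, mem := [0, 1, 2, 5, 8, 9, 10, 11, 12, 13, 14, 19, 20, 22, 23, 25, 26], wit := [(3, 7, 2), (4, 6, 2), (6, 4, 2), (7, 3, 2), (15, 18, 2), (16, 21, 2), (17, 24, 2), (18, 15, 2), (21, 16, 2), (24, 17, 2)] }, { kind := 3, x := 2, y := 4, mem := [0, 1, 2, 12,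 13, 14, 19, 20, 22, 23, 25, 26], wit := [] }, { kind := 1, x := 3, y := 0, mem := [3], wit := [] }, { kind := 2, x := 0, y := 6, mem := [0, 3, 4, 5, 6, 12, 13, 14, 15, 16, 17, 18, 20, 21, 23, 24, 26], wit := [(1, 8, 3), (2, 7, 3), (7, 2, 3), (8, 1, 3), (9, 19, 3), (10, 22, 3), (11, 25, 3), (19, 9, 3), (22, 10, 3), (25, 11, 3)] }, { kind := 3, x := 5, y := 7, mem := [0, 12, 13, 14, 20, 23, 26], wit := [] }, { kind := 1, x := 5, y := 0, mem := [5], wit := [] }, { kind := 2, x := 0, y := 9, mem := [2, 3, 4, 5, 8, 9, 10, 11, 12, 13, 14, 18, 20, 21, 23, 24, 26], wit := [(0, 7, 5), (1, 6, 5), (6, 1, 5), (7, 0, 5), (15, 19, 5), (16, 22, 5), (17, 25, 5), (19, 15, 5), (22, 16, 5), (25, 17, 5)] }, { kind := 3, x := 8, y := 10, mem := [12, 13, 14, 20, 23, 26], wit := [] }, { kind := 1, x := 6, y := 0, mem := [6], wit := [] }, { kind := 2, x := 0, y := 12, mem := [0, 3, 6, 7, 8, 12, 13, 14, 15,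 16, 17, 18, 19, 21, 22, 24, 25], wit := [(1, 5, 6), (2, 4, 6), (4, 2, 6), (5, 1, 6), (9, 20, 6), (10, 23, 6), (11, 26, 6), (20, 9, 6), (23, 10, 6), (26, 11, 6)] }, { kind := 3, x := 11, y := 13, mem := [12, 13, 14], wit := [] }, { kind := 1, x := 11, y := 0, mem := [11], wit := [] }, { kind := 2, x := 0, y := 15, mem := [1, 2, 4, 5, 7, 8, 9, 10, 11, 14, 17, 18, 19, 20, 21, 22, 23], wit := [(0, 24, 11), (3, 25, 11), (6, 26, 11), (12, 16, 11), (13, 15, 11), (15, 13, 11), (16, 12, 11), (24, 0, 11), (25, 3, 11), (26, 6, 11)] }, { kind := 3, x := 14, y := 16, mem := [14], wit := [] }]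
  path := []
  clear := []
  prop := []

/-- Step 18. -/
def step18 : Step where
  v := 15
  wit := Wit.pair 11 13
  sets := [{ kind := 0, x := 0, y := 0, mem := [0, 1, 2, 3, 4, 5, 6, 7, 8, 9, 10, 11, 12, 13, 14, 15, 16, 17, 18, 19, 20, 21, 22, 23, 24, 25, 26], wit := [] }, { kind := 1, x := 0, y := 0, mem := [0], wit := [] }, { kind := 2, x := 0, y := 1, mem := [0, 1, 2, 3, 6, 12, 13, 14, 15, 16, 17, 19, 20, 22, 23, 25, 26], wit := [(4, 8, 0), (5, 7, 0), (7, 5, 0), (8, 4, 0), (9, 18, 0), (10, 21, 0), (11, 24, 0), (18, 9, 0), (21, 10, 0), (24, 11, 0)] }, { kind := 1, x := 1, y := 0, mem := [1], wit := [] }, { kind := 2, x := 0, y := 3, mem := [0, 1, 2, 4, 7, 9, 10, 11, 15, 16, 17, 19, 20, 22, 23, 25, 26], wit := [(3, 8, 1), (5, 6, 1), (6, 5, 1), (8, 3, 1), (12, 18, 1), (13, 21, 1), (14, 24, 1), (18, 12, 1), (21, 13, 1), (24, 14, 1)] }, { kind := 3, x := 2, y := 4, mem := [0, 1, 2, 15,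 16, 17, 19, 20, 22, 23, 25, 26], wit := [] }, { kind := 1, x := 3, y := 0, mem := [3], wit := [] }, { kind := 2, x := 0, y := 6, mem := [0, 3, 4, 5, 6, 12, 13, 14, 15, 16, 17, 18, 20, 21, 23, 24, 26], wit := [(1, 8, 3), (2, 7, 3), (7, 2, 3), (8, 1, 3), (9, 19, 3), (10, 22, 3), (11, 25, 3), (19, 9, 3), (22, 10, 3), (25, 11, 3)] }, { kind := 3, x := 5, y := 7, mem := [0, 15, 16, 17, 20, 23, 26], wit := [] }, { kind := 1, x := 4, y := 0, mem := [4], wit := [] }, { kind := 2, x := 0, y := 9, mem := [1, 3, 4, 5, 7, 9, 10, 11, 15, 16, 17, 18, 20, 21, 23, 24, 26], wit := [(0, 8, 4), (2, 6, 4), (6, 2, 4), (8, 0, 4), (12, 19, 4), (13, 22, 4), (14, 25, 4), (19, 12, 4), (22, 13, 4), (25, 14, 4)] }, { kind := 3, x := 8, y := 10, mem := [15, 16, 17, 20, 23, 26], wit := [] }, { kind := 1, x := 6, y := 0, mem := [6], wit := [] }, { kind := 2, x := 0, y := 12, mem := [0, 3, 6, 7, 8, 12, 13, 14, 15,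 16, 17, 18, 19, 21, 22, 24, 25], wit := [(1, 5, 6), (2, 4, 6), (4, 2, 6), (5, 1, 6), (9, 20, 6), (10, 23, 6), (11, 26, 6), (20, 9, 6), (23, 10, 6), (26, 11, 6)] }, { kind := 3, x := 11, y := 13, mem := [15, 16, 17], wit := [] }, { kind := 1, x := 9, y := 0, mem := [9], wit := [] }, { kind := 2, x := 0, y := 15, mem := [1, 2, 4, 5, 7, 8, 9, 10, 11, 12, 15, 21, 22, 23, 24, 25, 26], wit := [(0, 18, 9), (3, 19, 9), (6, 20, 9), (13, 17, 9), (14, 16, 9), (16, 14, 9), (17, 13, 9), (18, 0, 9), (19, 3, 9), (20, 6, 9)] }, { kind := 3, x := 14, y := 16, mem := [15], wit := [] }]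
  path := []
  clear := []
  prop := []

/-- Step 19. -/
def step19 : Step where
  v := 16
  wit := Wit.pair 11 12
  sets := [{ kind := 0, x := 0, y := 0, mem := [0, 1, 2, 3, 4, 5, 6, 7, 8, 9, 10, 11, 12, 13, 14, 15, 16, 17, 18, 19, 20, 21, 22, 23, 24, 25, 26], wit := [] }, { kind := 1, x := 0, y := 0, mem := [0], wit := [] }, { kind := 2, x := 0, y := 1, mem := [0, 1, 2, 3, 6, 12, 13, 14, 15, 16, 17, 19, 20, 22, 23, 25, 26], wit := [(4, 8, 0), (5, 7, 0), (7, 5, 0), (8, 4, 0), (9, 18, 0), (10, 21, 0), (11, 24, 0), (18, 9, 0), (21, 10, 0), (24, 11, 0)] }, { kind := 1, x := 1, y := 0, mem := [1], wit := [] }, { kind := 2, x := 0, y := 3, mem := [0, 1, 2, 4, 7, 9, 10, 11, 15, 16, 17, 19, 20, 22, 23, 25, 26], wit := [(3, 8, 1), (5, 6, 1), (6, 5, 1), (8, 3, 1), (12, 18, 1), (13, 21, 1), (14, 24, 1), (18, 12, 1), (21, 13, 1), (24, 14, 1)] }, { kind := 3, x := 2, y := 4, mem := [0, 1, 2, 15,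 16, 17, 19, 20, 22, 23, 25, 26], wit := [] }, { kind := 1, x := 3, y := 0, mem := [3], wit := [] }, { kind := 2, x := 0, y := 6, mem := [0, 3, 4, 5, 6, 12, 13, 14, 15, 16, 17, 18, 20, 21, 23, 24, 26], wit := [(1, 8, 3), (2, 7, 3), (7, 2, 3), (8, 1, 3), (9, 19, 3), (10, 22, 3), (11, 25, 3), (19, 9, 3), (22, 10, 3), (25, 11, 3)] }, { kind := 3, x := 5, y := 7, mem := [0, 15, 16, 17, 20, 23, 26], wit := [] }, { kind := 1, x := 4, y := 0, mem := [4], wit := [] }, { kind := 2, x := 0, y := 9, mem := [1, 3, 4, 5, 7, 9, 10, 11, 15, 16, 17, 18, 20, 21, 23, 24, 26], wit := [(0, 8, 4), (2, 6, 4), (6, 2, 4), (8, 0, 4), (12, 19, 4), (13, 22, 4), (14, 25, 4), (19, 12, 4), (22, 13, 4), (25, 14, 4)] }, { kind := 3, x := 8, y := 10, mem := [15, 16, 17, 20, 23, 26], wit := [] }, { kind := 1, x := 6, y := 0, mem := [6], wit := [] }, { kind := 2, x := 0, y := 12, mem := [0, 3, 6, 7, 8, 12, 13, 14, 15,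 16, 17, 18, 19, 21, 22, 24, 25], wit := [(1, 5, 6), (2, 4, 6), (4, 2, 6), (5, 1, 6), (9, 20, 6), (10, 23, 6), (11, 26, 6), (20, 9, 6), (23, 10, 6), (26, 11, 6)] }, { kind := 3, x := 11, y := 13, mem := [15, 16, 17], wit := [] }, { kind := 1, x := 10, y := 0, mem := [10], wit := [] }, { kind := 2, x := 0, y := 15, mem := [1, 2, 4, 5, 7, 8, 9, 10, 11, 13, 16, 18, 19, 20, 24, 25, 26], wit := [(0, 21, 10), (3, 22, 10), (6, 23, 10), (12, 17, 10), (14, 15, 10), (15, 14, 10), (17, 12, 10), (21, 0, 10), (22, 3, 10), (23, 6, 10)] }, { kind := 3, x := 14, y := 16, mem := [16], wit := [] }]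
  path := []
  clear := []
  prop := []

/-- Step 20. -/
def step20 : Step where
  v := 17
  wit := Wit.pair 10 12
  sets := [{ kind := 0, x := 0, y := 0, mem := [0, 1, 2, 3, 4, 5, 6, 7, 8, 9, 10, 11, 12, 13, 14, 15, 16, 17, 18, 19, 20, 21, 22, 23, 24, 25, 26], wit := [] }, { kind := 1, x := 0, y := 0, mem := [0], wit := [] }, { kind := 2, x := 0, y := 1, mem := [0, 1, 2, 3, 6, 12, 13, 14, 15, 16, 17, 19, 20, 22, 23, 25, 26], wit := [(4, 8, 0), (5, 7, 0), (7, 5, 0), (8, 4, 0), (9, 18, 0), (10, 21, 0), (11, 24, 0), (18, 9, 0), (21, 10, 0), (24, 11, 0)] }, { kind := 1, x := 1, y := 0, mem := [1], wit := [] }, { kind := 2, x := 0, y := 3, mem := [0, 1, 2, 4, 7, 9, 10, 11, 15, 16, 17, 19, 20, 22, 23, 25, 26], wit := [(3, 8, 1), (5, 6, 1), (6, 5, 1), (8, 3, 1), (12, 18, 1), (13, 21, 1), (14, 24, 1), (18, 12, 1), (21, 13, 1), (24, 14, 1)] }, { kind := 3, x := 2, y := 4, mem := [0, 1, 2, 15,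 16, 17, 19, 20, 22, 23, 25, 26], wit := [] }, { kind := 1, x := 3, y := 0, mem := [3], wit := [] }, { kind := 2, x := 0, y := 6, mem := [0, 3, 4, 5, 6, 12, 13, 14, 15, 16, 17, 18, 20, 21, 23, 24, 26], wit := [(1, 8, 3), (2, 7, 3), (7, 2, 3), (8, 1, 3), (9, 19, 3), (10, 22, 3), (11, 25, 3), (19, 9, 3), (22, 10, 3), (25, 11, 3)] }, { kind := 3, x := 5, y := 7, mem := [0, 15, 16, 17, 20, 23, 26], wit := [] }, { kind := 1, x := 4, y := 0, mem := [4], wit := [] }, { kind := 2, x := 0, y := 9, mem := [1, 3, 4, 5, 7, 9, 10, 11, 15, 16, 17, 18, 20, 21, 23, 24, 26], wit := [(0, 8, 4), (2, 6, 4), (6, 2, 4), (8, 0, 4), (12, 19, 4), (13, 22, 4), (14, 25, 4), (19, 12, 4), (22, 13, 4), (25, 14, 4)] }, { kind := 3, x := 8, y := 10, mem := [15, 16, 17, 20, 23, 26], wit := [] }, { kind := 1, x := 6, y := 0, mem := [6], wit := [] }, { kind := 2, x := 0, y := 12, mem := [0, 3, 6, 7, 8, 12, 13, 14, 15,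 16, 17, 18, 19, 21, 22, 24, 25], wit := [(1, 5, 6), (2, 4, 6), (4, 2, 6), (5, 1, 6), (9, 20, 6), (10, 23, 6), (11, 26, 6), (20, 9, 6), (23, 10, 6), (26, 11, 6)] }, { kind := 3, x := 11, y := 13, mem := [15, 16, 17], wit := [] }, { kind := 1, x := 11, y := 0, mem := [11], wit := [] }, { kind := 2, x := 0, y := 15, mem := [1, 2, 4, 5, 7, 8, 9, 10, 11, 14, 17, 18, 19, 20, 21, 22, 23], wit := [(0, 24, 11), (3, 25, 11), (6, 26, 11), (12, 16, 11), (13, 15, 11), (15, 13, 11), (16, 12, 11), (24, 0, 11), (25, 3, 11), (26, 6, 11)] }, { kind := 3, x := 14, y := 16, mem := [17], wit := [] }]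
  path := []
  clear := []
  prop := []

/-- Step 21. -/
def step21 : Step where
  v := 18
  wit := Wit.pair 2 15
  sets := [{ kind := 0, x := 0, y := 0, mem := [0, 1, 2, 3, 4, 5, 6, 7, 8, 9, 10, 11, 12, 13, 14, 15, 16, 17, 18, 19, 20, 21, 22, 23, 24, 25, 26], wit := [] }, { kind := 1, x := 3, y := 0, mem := [3], wit := [] }, { kind := 2, x := 0, y := 1, mem := [0, 3, 4, 5, 6, 12, 13, 14, 15, 16, 17, 18, 20, 21, 23, 24, 26], wit := [(1, 8, 3), (2, 7, 3), (7, 2, 3), (8, 1, 3), (9, 19, 3), (10, 22, 3), (11, 25, 3), (19, 9, 3), (22, 10, 3), (25, 11, 3)] }, { kind := 1, x := 4, y := 0, mem := [4], wit := [] }, { kind := 2, x := 0, y := 3, mem := [1, 3, 4, 5, 7, 9, 10, 11, 15, 16, 17, 18, 20, 21, 23, 24, 26], wit := [(0, 8, 4), (2, 6, 4), (6, 2, 4), (8, 0, 4), (12, 19, 4), (13, 22, 4), (14, 25, 4), (19, 12, 4), (22, 13, 4), (25, 14, 4)] }, { kind := 3, x := 2, y := 4, mem := [3, 4, 5, 15,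 16, 17, 18, 20, 21, 23, 24, 26], wit := [] }, { kind := 1, x := 5, y := 0, mem := [5], wit := [] }, { kind := 2, x := 0, y := 6, mem := [2, 3, 4, 5, 8, 9, 10, 11, 12, 13, 14, 18, 20, 21, 23, 24, 26], wit := [(0, 7, 5), (1, 6, 5), (6, 1, 5), (7, 0, 5), (15, 19, 5), (16, 22, 5), (17, 25, 5), (19, 15, 5), (22, 16, 5), (25, 17, 5)] }, { kind := 3, x := 5, y := 7, mem := [3, 4, 5, 18, 20, 21, 23, 24, 26], wit := [] }, { kind := 1, x := 6, y := 0, mem := [6], wit := [] }, { kind := 2, x := 0, y := 9, mem := [0, 3, 6, 7, 8, 12, 13, 14, 15, 16, 17, 18, 19, 21, 22, 24, 25], wit := [(1, 5, 6), (2, 4, 6), (4, 2, 6), (5, 1, 6), (9, 20, 6), (10, 23, 6), (11, 26, 6), (20, 9, 6), (23, 10, 6), (26, 11, 6)] }, { kind := 3, x := 8, y := 10, mem := [3, 18, 21, 24], wit := [] }, { kind := 1, x := 7, y := 0, mem := [7], wit := [] }, { kind := 2, x := 0, y := 12, mem := [1, 4, 6, 7, 8, 9, 10, 11, 15, 16,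 17, 18, 19, 21, 22, 24, 25], wit := [(0, 5, 7), (2, 3, 7), (3, 2, 7), (5, 0, 7), (12, 20, 7), (13, 23, 7), (14, 26, 7), (20, 12, 7), (23, 13, 7), (26, 14, 7)] }, { kind := 3, x := 11, y := 13, mem := [18, 21, 24], wit := [] }, { kind := 1, x := 10, y := 0, mem := [10], wit := [] }, { kind := 2, x := 0, y := 15, mem := [1, 2, 4, 5, 7, 8, 9, 10, 11, 13, 16, 18, 19, 20, 24, 25, 26], wit := [(0, 21, 10), (3, 22, 10), (6, 23, 10), (12, 17, 10), (14, 15, 10), (15, 14, 10), (17, 12, 10), (21, 0, 10), (22, 3, 10), (23, 6, 10)] }, { kind := 3, x := 14, y := 16, mem := [18, 24], wit := [] }, { kind := 1, x := 11, y := 0, mem := [11], wit := [] }, { kind := 2, x := 0, y := 18, mem := [1, 2, 4, 5, 7, 8, 9, 10, 11, 14, 17, 18, 19, 20, 21, 22, 23], wit := [(0, 24, 11), (3, 25, 11), (6, 26, 11), (12, 16, 11), (13, 15, 11), (15, 13, 11), (16, 12, 11), (24, 0, 11), (25, 3, 11), (26, 6, 11)] }, { kind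 := 3, x := 17, y := 19, mem := [18], wit := [] }]
  path := []
  clear := []
  prop := []

/-- Step 22. -/
def step22 : Step where
  v := 20
  wit := Wit.pair 7 12
  sets := [{ kind := 0, x := 0, y := 0, mem := [0, 1, 2, 3, 4, 5, 6, 7, 8, 9, 10, 11, 12, 13, 14, 15, 16, 17, 18, 19, 20, 21, 22, 23, 24, 25, 26], wit := [] }, { kind := 1, x := 0, y := 0, mem := [0], wit := [] }, { kind := 2, x := 0, y := 1, mem := [0, 1, 2, 3, 6, 12, 13, 14, 15, 16, 17, 19, 20, 22, 23, 25, 26], wit := [(4, 8, 0), (5, 7, 0), (7, 5, 0), (8, 4, 0), (9, 18, 0), (10, 21, 0), (11, 24, 0), (18, 9, 0), (21, 10, 0), (24, 11, 0)] }, { kind := 1, x := 1, y := 0, mem := [1], wit := [] }, { kind := 2, x := 0, y := 3, mem := [0, 1, 2, 4, 7, 9, 10, 11, 15, 16, 17, 19, 20, 22, 23, 25, 26], wit := [(3, 8, 1), (5, 6, 1), (6, 5, 1), (8, 3, 1), (12, 18, 1), (13, 21, 1), (14, 24, 1), (18, 12, 1), (21, 13, 1), (24, 14, 1)] },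 { kind := 3, x := 2, y := 4, mem := [0, 1, 2, 15, 16, 17, 19, 20, 22, 23, 25, 26], wit := [] }, { kind := 1, x := 2, y := 0, mem := [2], wit := [] }, { kind := 2, x := 0, y := 6, mem := [0, 1, 2, 5, 8, 9, 10, 11, 12, 13, 14, 19, 20, 22, 23, 25, 26], wit := [(3, 7, 2), (4, 6, 2), (6, 4, 2), (7, 3, 2), (15, 18, 2), (16, 21, 2), (17, 24, 2), (18, 15, 2), (21, 16, 2), (24, 17, 2)] }, { kind := 3, x := 5, y := 7, mem := [0, 1, 2, 19, 20, 22, 23, 25, 26], wit := [] }, { kind := 1, x := 3, y := 0, mem := [3], wit := [] }, { kind := 2, x := 0, y := 9, mem := [0, 3, 4, 5, 6, 12, 13, 14, 15, 16, 17, 18, 20, 21, 23, 24, 26], wit := [(1, 8, 3), (2, 7, 3), (7, 2, 3), (8, 1, 3), (9, 19, 3), (10, 22, 3), (11, 25, 3), (19, 9, 3), (22, 10, 3), (25, 11, 3)] }, { kind := 3, x := 8, y := 10, mem := [0, 20, 23, 26], wit := [] }, { kind := 1, x := 4, y := 0, mem := [4], wit := [] }, { kind := 2, x := 0,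 y := 12, mem := [1, 3, 4, 5, 7, 9, 10, 11, 15, 16, 17, 18, 20, 21, 23, 24, 26], wit := [(0, 8, 4), (2, 6, 4), (6, 2, 4), (8, 0, 4), (12, 19, 4), (13, 22, 4), (14, 25, 4), (19, 12, 4), (22, 13, 4), (25, 14, 4)] }, { kind := 3, x := 11, y := 13, mem := [20, 23, 26], wit := [] }, { kind := 1, x := 10, y := 0, mem := [10], wit := [] }, { kind := 2, x := 0, y := 15, mem := [1, 2, 4, 5, 7, 8, 9, 10, 11, 13, 16, 18, 19, 20, 24, 25, 26], wit := [(0, 21, 10), (3, 22, 10), (6, 23, 10), (12, 17, 10), (14, 15, 10), (15, 14, 10), (17, 12, 10), (21, 0, 10), (22, 3, 10), (23, 6, 10)] }, { kind := 3, x := 14, y := 16, mem := [20, 26], wit := [] }, { kind := 1, x := 11, y := 0, mem := [11], wit := [] }, { kind := 2, x := 0, y := 18, mem := [1, 2, 4, 5, 7, 8, 9, 10, 11, 14, 17, 18, 19, 20, 21, 22, 23], wit := [(0, 24, 11), (3, 25, 11), (6, 26, 11), (12, 16, 11), (13, 15, 11), (15, 13, 11), (16, 12, 11),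 (24, 0, 11), (25, 3, 11), (26, 6, 11)] }, { kind := 3, x := 17, y := 19, mem := [20], wit := [] }]
  path := []
  clear := []
  prop := []

/-- Step 23. -/
def step23 : Step where
  v := 21
  wit := Wit.pair 20 25
  sets := [{ kind := 0, x := 0, y := 0, mem := [0, 1, 2, 3, 4, 5, 6, 7, 8, 9, 10, 11, 12, 13, 14, 15, 16, 17, 18, 19, 20, 21, 22, 23, 24, 25, 26], wit := [] }, { kind := 1, x := 3, y := 0, mem := [3], wit := [] }, { kind := 2, x := 0, y := 1, mem := [0, 3, 4, 5, 6, 12, 13, 14, 15, 16, 17, 18, 20, 21, 23, 24, 26], wit := [(1, 8, 3), (2, 7, 3), (7, 2, 3), (8, 1, 3), (9, 19, 3), (10, 22, 3), (11, 25, 3), (19, 9, 3), (22, 10, 3), (25, 11, 3)] }, { kind := 1, x := 4, y := 0, mem := [4], wit := [] }, { kind := 2, x := 0, y := 3, mem := [1, 3, 4, 5, 7, 9, 10, 11, 15, 16, 17, 18, 20, 21, 23, 24, 26], wit := [(0, 8, 4), (2, 6, 4), (6, 2, 4), (8, 0, 4), (12, 19, 4), (13, 22, 4), (14,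 25, 4), (19, 12, 4), (22, 13, 4), (25, 14, 4)] }, { kind := 3, x := 2, y := 4, mem := [3, 4, 5, 15, 16, 17, 18, 20, 21, 23, 24, 26], wit := [] }, { kind := 1, x := 5, y := 0, mem := [5], wit := [] }, { kind := 2, x := 0, y := 6, mem := [2, 3, 4, 5, 8, 9, 10, 11, 12, 13, 14, 18, 20, 21, 23, 24, 26], wit := [(0, 7, 5), (1, 6, 5), (6, 1, 5), (7, 0, 5), (15, 19, 5), (16, 22, 5), (17, 25, 5), (19, 15, 5), (22, 16, 5), (25, 17, 5)] }, { kind := 3, x := 5, y := 7, mem := [3, 4, 5, 18, 20, 21, 23, 24, 26], wit := [] }, { kind := 1, x := 6, y := 0, mem := [6], wit := [] }, { kind := 2, x := 0, y := 9, mem := [0, 3, 6, 7, 8, 12, 13, 14, 15, 16, 17, 18, 19, 21, 22, 24, 25], wit := [(1, 5, 6), (2, 4, 6), (4, 2, 6), (5, 1, 6), (9, 20, 6), (10, 23, 6), (11, 26, 6), (20, 9, 6), (23, 10, 6), (26, 11, 6)] }, { kind := 3, x := 8, y := 10, mem := [3, 18, 21, 24], wit := [] }, { kind := 1, x := 7, y :=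 0, mem := [7], wit := [] }, { kind := 2, x := 0, y := 12, mem := [1, 4, 6, 7, 8, 9, 10, 11, 15, 16, 17, 18, 19, 21, 22, 24, 25], wit := [(0, 5, 7), (2, 3, 7), (3, 2, 7), (5, 0, 7), (12, 20, 7), (13, 23, 7), (14, 26, 7), (20, 12, 7), (23, 13, 7), (26, 14, 7)] }, { kind := 3, x := 11, y := 13, mem := [18, 21, 24], wit := [] }, { kind := 1, x := 9, y := 0, mem := [9], wit := [] }, { kind := 2, x := 0, y := 15, mem := [1, 2, 4, 5, 7, 8, 9, 10, 11, 12, 15, 21, 22, 23, 24, 25, 26], wit := [(0, 18, 9), (3, 19, 9), (6, 20, 9), (13, 17, 9), (14, 16, 9), (16, 14, 9), (17, 13, 9), (18, 0, 9), (19, 3, 9), (20, 6, 9)] }, { kind := 3, x := 14, y := 16, mem := [21, 24], wit := [] }, { kind := 1, x := 11, y := 0, mem := [11], wit := [] }, { kind := 2, x := 0, y := 18, mem := [1, 2, 4, 5, 7, 8, 9, 10, 11, 14, 17, 18, 19, 20, 21, 22, 23], wit := [(0, 24, 11), (3, 25, 11), (6, 26, 11), (12, 16, 11), (13,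 15, 11), (15, 13, 11), (16, 12, 11), (24, 0, 11), (25, 3, 11), (26, 6, 11)] }, { kind := 3, x := 17, y := 19, mem := [21], wit := [] }]
  path := []
  clear := []
  prop := []

/-- Step 24. -/
def step24 : Step where
  v := 23
  wit := Wit.pair 18 25
  sets := [{ kind := 0, x := 0, y := 0, mem := [0, 1, 2, 3, 4, 5, 6, 7, 8, 9, 10, 11, 12, 13, 14, 15, 16, 17, 18, 19, 20, 21, 22, 23, 24, 25, 26], wit := [] }, { kind := 1, x := 0, y := 0, mem := [0], wit := [] }, { kind := 2, x := 0, y := 1, mem := [0, 1, 2, 3, 6, 12, 13, 14, 15, 16, 17, 19, 20, 22, 23, 25, 26], wit := [(4, 8, 0), (5, 7, 0), (7, 5, 0), (8, 4, 0), (9, 18, 0), (10, 21, 0), (11, 24, 0), (18, 9, 0), (21, 10, 0), (24, 11, 0)] }, { kind := 1, x := 1, y := 0, mem := [1], wit := [] }, { kind := 2, x := 0, y := 3, mem := [0, 1, 2, 4, 7, 9, 10, 11, 15, 16, 17, 19, 20, 22, 23, 25, 26], wit := [(3, 8, 1), (5, 6, 1), (6, 5, 1), (8,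 3, 1), (12, 18, 1), (13, 21, 1), (14, 24, 1), (18, 12, 1), (21, 13, 1), (24, 14, 1)] }, { kind := 3, x := 2, y := 4, mem := [0, 1, 2, 15, 16, 17, 19, 20, 22, 23, 25, 26], wit := [] }, { kind := 1, x := 2, y := 0, mem := [2], wit := [] }, { kind := 2, x := 0, y := 6, mem := [0, 1, 2, 5, 8, 9, 10, 11, 12, 13, 14, 19, 20, 22, 23, 25, 26], wit := [(3, 7, 2), (4, 6, 2), (6, 4, 2), (7, 3, 2), (15, 18, 2), (16, 21, 2), (17, 24, 2), (18, 15, 2), (21, 16, 2), (24, 17, 2)] }, { kind := 3, x := 5, y := 7, mem := [0, 1, 2, 19, 20, 22, 23, 25, 26], wit := [] }, { kind := 1, x := 3, y := 0, mem := [3], wit := [] }, { kind := 2, x := 0, y := 9, mem := [0, 3, 4, 5, 6, 12, 13, 14, 15, 16, 17, 18, 20, 21, 23, 24, 26], wit := [(1, 8, 3), (2, 7, 3), (7, 2, 3), (8, 1, 3), (9, 19, 3), (10, 22, 3), (11, 25, 3), (19, 9, 3), (22, 10, 3), (25, 11, 3)] }, { kind := 3, x := 8, y := 10, mem := [0, 20, 23, 26],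 wit := [] }, { kind := 1, x := 4, y := 0, mem := [4], wit := [] }, { kind := 2, x := 0, y := 12, mem := [1, 3, 4, 5, 7, 9, 10, 11, 15, 16, 17, 18, 20, 21, 23, 24, 26], wit := [(0, 8, 4), (2, 6, 4), (6, 2, 4), (8, 0, 4), (12, 19, 4), (13, 22, 4), (14, 25, 4), (19, 12, 4), (22, 13, 4), (25, 14, 4)] }, { kind := 3, x := 11, y := 13, mem := [20, 23, 26], wit := [] }, { kind := 1, x := 9, y := 0, mem := [9], wit := [] }, { kind := 2, x := 0, y := 15, mem := [1, 2, 4, 5, 7, 8, 9, 10, 11, 12, 15, 21, 22, 23, 24, 25, 26], wit := [(0, 18, 9), (3, 19, 9), (6, 20, 9), (13, 17, 9), (14, 16, 9), (16, 14, 9), (17, 13, 9), (18, 0, 9), (19, 3, 9), (20, 6, 9)] }, { kind := 3, x := 14, y := 16, mem := [23, 26], wit := [] }, { kind := 1, x := 11, y := 0, mem := [11], wit := [] }, { kind := 2, x := 0, y := 18, mem := [1, 2, 4, 5, 7, 8, 9, 10, 11, 14, 17, 18, 19, 20, 21, 22, 23], wit := [(0, 24, 11), (3,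 25, 11), (6, 26, 11), (12, 16, 11), (13, 15, 11), (15, 13, 11), (16, 12, 11), (24, 0, 11), (25, 3, 11), (26, 6, 11)] }, { kind := 3, x := 17, y := 19, mem := [23], wit := [] }]
  path := []
  clear := []
  prop := []

/-- Step 25. -/
def step25 : Step where
  v := 24
  wit := Wit.pair 20 22
  sets := [{ kind := 0, x := 0, y := 0, mem := [0, 1, 2, 3, 4, 5, 6, 7, 8, 9, 10, 11, 12, 13, 14, 15, 16, 17, 18, 19, 20, 21, 22, 23, 24, 25, 26], wit := [] }, { kind := 1, x := 3, y := 0, mem := [3], wit := [] }, { kind := 2, x := 0, y := 1, mem := [0, 3, 4, 5, 6, 12, 13, 14, 15, 16, 17, 18, 20, 21, 23, 24, 26], wit := [(1, 8, 3), (2, 7, 3), (7, 2, 3), (8, 1, 3), (9, 19, 3), (10, 22, 3), (11, 25, 3), (19, 9, 3), (22, 10, 3), (25, 11, 3)] }, { kind := 1, x := 4, y := 0, mem := [4], wit := [] }, { kind := 2, x := 0, y := 3, mem := [1, 3, 4, 5, 7, 9, 10, 11, 15, 16, 17, 18, 20, 21, 23, 24, 26], wit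 := [(0, 8, 4), (2, 6, 4), (6, 2, 4), (8, 0, 4), (12, 19, 4), (13, 22, 4), (14, 25, 4), (19, 12, 4), (22, 13, 4), (25, 14, 4)] }, { kind := 3, x := 2, y := 4, mem := [3, 4, 5, 15, 16, 17, 18, 20, 21, 23, 24, 26], wit := [] }, { kind := 1, x := 5, y := 0, mem := [5], wit := [] }, { kind := 2, x := 0, y := 6, mem := [2, 3, 4, 5, 8, 9, 10, 11, 12, 13, 14, 18, 20, 21, 23, 24, 26], wit := [(0, 7, 5), (1, 6, 5), (6, 1, 5), (7, 0, 5), (15, 19, 5), (16, 22, 5), (17, 25, 5), (19, 15, 5), (22, 16, 5), (25, 17, 5)] }, { kind := 3, x := 5, y := 7, mem := [3, 4, 5, 18, 20, 21, 23, 24, 26], wit := [] }, { kind := 1, x := 6, y := 0, mem := [6], wit := [] }, { kind := 2, x := 0, y := 9, mem := [0, 3, 6, 7, 8, 12, 13, 14, 15, 16, 17, 18, 19, 21, 22, 24, 25], wit := [(1, 5, 6), (2, 4, 6), (4, 2, 6), (5, 1, 6), (9, 20, 6), (10, 23, 6), (11, 26, 6), (20, 9, 6), (23, 10, 6), (26, 11, 6)] }, { kind := 3,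 x := 8, y := 10, mem := [3, 18, 21, 24], wit := [] }, { kind := 1, x := 7, y := 0, mem := [7], wit := [] }, { kind := 2, x := 0, y := 12, mem := [1, 4, 6, 7, 8, 9, 10, 11, 15, 16, 17, 18, 19, 21, 22, 24, 25], wit := [(0, 5, 7), (2, 3, 7), (3, 2, 7), (5, 0, 7), (12, 20, 7), (13, 23, 7), (14, 26, 7), (20, 12, 7), (23, 13, 7), (26, 14, 7)] }, { kind := 3, x := 11, y := 13, mem := [18, 21, 24], wit := [] }, { kind := 1, x := 9, y := 0, mem := [9], wit := [] }, { kind := 2, x := 0, y := 15, mem := [1, 2, 4, 5, 7, 8, 9, 10, 11, 12, 15, 21, 22, 23, 24, 25, 26], wit := [(0, 18, 9), (3, 19, 9), (6, 20, 9), (13, 17, 9), (14, 16, 9), (16, 14, 9), (17, 13, 9), (18, 0, 9), (19, 3, 9), (20, 6, 9)] }, { kind := 3, x := 14, y := 16, mem := [21, 24], wit := [] }, { kind := 1, x := 10, y := 0, mem := [10], wit := [] }, { kind := 2, x := 0, y := 18, mem := [1, 2, 4, 5, 7, 8, 9, 10, 11, 13, 16, 18, 19,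 20, 24, 25, 26], wit := [(0, 21, 10), (3, 22, 10), (6, 23, 10), (12, 17, 10), (14, 15, 10), (15, 14, 10), (17, 12, 10), (21, 0, 10), (22, 3, 10), (23, 6, 10)] }, { kind := 3, x := 17, y := 19, mem := [24], wit := [] }]
  path := []
  clear := []
  prop := []

/-- Step 26. -/
def step26 : Step where
  v := 26
  wit := Wit.pair 18 22
  sets := [{ kind := 0, x := 0, y := 0, mem := [0, 1, 2, 3, 4, 5, 6, 7, 8, 9, 10, 11, 12, 13, 14, 15, 16, 17, 18, 19, 20, 21, 22, 23, 24, 25, 26], wit := [] }, { kind := 1, x := 0, y := 0, mem := [0], wit := [] }, { kind := 2, x := 0, y := 1, mem := [0, 1, 2, 3, 6, 12, 13, 14, 15, 16, 17, 19, 20, 22, 23, 25, 26], wit := [(4, 8, 0), (5, 7, 0), (7, 5, 0), (8, 4, 0), (9, 18, 0), (10, 21, 0), (11, 24, 0), (18, 9, 0), (21, 10, 0), (24, 11, 0)] }, { kind := 1, x := 1, y := 0, mem := [1], wit := [] }, { kind := 2, x := 0, y := 3, mem := [0, 1, 2, 4, 7, 9, 10, 11,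 15, 16, 17, 19, 20, 22, 23, 25, 26], wit := [(3, 8, 1), (5, 6, 1), (6, 5, 1), (8, 3, 1), (12, 18, 1), (13, 21, 1), (14, 24, 1), (18, 12, 1), (21, 13, 1), (24, 14, 1)] }, { kind := 3, x := 2, y := 4, mem := [0, 1, 2, 15, 16, 17, 19, 20, 22, 23, 25, 26], wit := [] }, { kind := 1, x := 2, y := 0, mem := [2], wit := [] }, { kind := 2, x := 0, y := 6, mem := [0, 1, 2, 5, 8, 9, 10, 11, 12, 13, 14, 19, 20, 22, 23, 25, 26], wit := [(3, 7, 2), (4, 6, 2), (6, 4, 2), (7, 3, 2), (15, 18, 2), (16, 21, 2), (17, 24, 2), (18, 15, 2), (21, 16, 2), (24, 17, 2)] }, { kind := 3, x := 5, y := 7, mem := [0, 1, 2, 19, 20, 22, 23, 25, 26], wit := [] }, { kind := 1, x := 3, y := 0, mem := [3], wit := [] }, { kind := 2, x := 0, y := 9, mem := [0, 3, 4, 5, 6, 12, 13, 14, 15, 16, 17, 18, 20, 21, 23, 24, 26], wit := [(1, 8, 3), (2, 7, 3), (7, 2, 3), (8, 1, 3), (9, 19, 3), (10, 22, 3), (11, 25, 3), (19, 9, 3), (22,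 10, 3), (25, 11, 3)] }, { kind := 3, x := 8, y := 10, mem := [0, 20, 23, 26], wit := [] }, { kind := 1, x := 4, y := 0, mem := [4], wit := [] }, { kind := 2, x := 0, y := 12, mem := [1, 3, 4, 5, 7, 9, 10, 11, 15, 16, 17, 18, 20, 21, 23, 24, 26], wit := [(0, 8, 4), (2, 6, 4), (6, 2, 4), (8, 0, 4), (12, 19, 4), (13, 22, 4), (14, 25, 4), (19, 12, 4), (22, 13, 4), (25, 14, 4)] }, { kind := 3, x := 11, y := 13, mem := [20, 23, 26], wit := [] }, { kind := 1, x := 9, y := 0, mem := [9], wit := [] }, { kind := 2, x := 0, y := 15, mem := [1, 2, 4, 5, 7, 8, 9, 10, 11, 12, 15, 21, 22, 23, 24, 25, 26], wit := [(0, 18, 9), (3, 19, 9), (6, 20, 9), (13, 17, 9), (14, 16, 9), (16, 14, 9), (17, 13, 9), (18, 0, 9), (19, 3, 9), (20, 6, 9)] }, { kind := 3, x := 14, y := 16, mem := [23, 26], wit := [] }, { kind := 1, x := 10, y := 0, mem := [10], wit := [] }, { kind := 2, x := 0, y := 18, mem := [1, 2, 4,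 5, 7, 8, 9, 10, 11, 13, 16, 18, 19, 20, 24, 25, 26], wit := [(0, 21, 10), (3, 22, 10), (6, 23, 10), (12, 17, 10), (14, 15, 10), (15, 14, 10), (17, 12, 10), (21, 0, 10), (22, 3, 10), (23, 6, 10)] }, { kind := 3, x := 17, y := 19, mem := [26], wit := [] }]
  path := []
  clear := []
  prop := []

/-- The steps of the elimination. -/
def steps : List Step := [step0, step1, step2, step3, step4, step5, step6, step7, step8, step9, step10, step11, step12, step13, step14, step15, step16, step17, step18, step19, step20, step21, step22, step23, step24, step25, step26]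

/-- Exponents of the torus: a coordinate and a vector with exponent one there. -/
def torusTab : List (ℕ × List ℤ) := [(4, [(-1), (-1), (-1), (-1), (-1), (-1)]), (18, [0, 1, 0, 0, 0, 0]), (24, [1, 1, 1, 1, 0, 0]), (2, [0, 1, 0, 1, 0, 0]), (8, [(-1), (-2), (-2), (-2), (-1), (-1)]), (3, [0, 0, 0, 1, 1, 0])]

/-- Monomials determining the remaining coordinates of a diagonal map. -/
def diagTab : List (ℕ × ℕ × ℕ) := [(4, 8, 0), (3, 8, 1), (2, 3, 7), (2, 4, 6), (0, 18, 9), (0, 24, 11), (1, 18, 12), (1, 24, 14), (2, 18, 15), (2, 24, 17), (3, 9, 19), (3, 11, 25), (15, 19, 5), (6, 9, 20), (6, 11, 26), (9, 17, 13), (9, 14, 16), (12, 17, 10), (18, 26, 22), (18, 25, 23), (19, 26, 21)]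

end Cfsg.Lib.Chev.E6Cubic
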