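import Cfsg.Agent.Chev.Sparse

/-! Types for certified computations with the cubic form in 27 variables. -/

set_option autoImplicit false

namespace Cfsg.Lib.Chev.E6Cubic

/-- A monomial: three coordinates and a coefficient. -/
abbrev Mon : Type := ℕ × ℕ × ℕ × ℤ

/-- An entry of a nilpotent operator: source, target, coefficient. -/
abbrev Ent : Type := ℕ × ℕ × ℤ

/-- Reason for a nonzero coordinate. -/
inductive Wit : Type
  | any : Wit
  | adj (i k : ℕ) : Wit
  | pair (i j : ℕ) : Wit

/-- An invariant set of coordinates with its derivation. -/
structure Clo : Type where
  /-- 0: everything; 1: a line; 2: annihilator; 3: intersection -/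
  kind : ℕ
  /-- first argument -/
  x : ℕ
  /-- second argument -/
  y : ℕ
  /-- the members -/
  mem : List ℕ
  /-- witnesses for the non-members of an annihilator -/
  wit : List (ℕ × ℕ × ℕ)

/-- One step of the elimination. -/
structure Step : Type where
  /-- the coordinate to fix -/
  v : ℕ
  /-- why some coordinate is nonzero -/
  wit : Wit
  /-- invariant sets, the last one containing the coordinate -/
  sets : List Clo
  /-- moves towards the coordinate: from, root, to -/
  path : List (ℕ × ℕ × ℕ)
  /-- clearing: root, coordinate -/
  clear : List (ℕ × ℕ)
  /-- coordinates forced to vanish: equation, coordinate -/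
  prop : List (ℕ × ℕ)

end Cfsg.Lib.Chev.E6Cubic
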