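import Cfsg.Agent.Chev.E6Cubic.Cert

/-! Every element of the stabiliser becomes diagonal after multiplication by root elements. -/

set_option autoImplicit false
set_option maxHeartbeats 1000000

open Matrix
open Cfsg.Lie (I27)

namespace Cfsg.Lib.Chev.E6Cubic

theorem mem_iff {a : ℕ} {L : List ℕ} : mem a L = true ↔ a ∈ L := by
  rw [mem, kex_iff]
  exact ⟨fun ⟨x, hx, e⟩ => Nat.eq_of_beq_eq_true e ▸ hx, fun h => ⟨a, h, Nat.beq_refl a⟩⟩

theorem mem_false {a : ℕ} {L : List ℕ} : mem a L = false ↔ a ∉ L := by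
  rw [← mem_iff, Bool.not_eq_true]

theorem dmons_lt {m : Mon} (h : m ∈ dmons) : m.1 < 27 ∧ m.2.1 < 27 ∧ m.2.2.1 < 27 := by
  have := mons_lt
  simp only [Bool.and_eq_true] at this
  have := (kall_iff _ _).1 this.1 m h
  simpa [and_assoc] using this

theorem six_lt {m : Mon} (h : m ∈ six) : m.1 < 27 ∧ m.2.1 < 27 ∧ m.2.2.1 < 27 := by
  have := mons_lt
  simp only [Bool.and_eq_true] at this
  have := (kall_iff _ _).1 this.2 m h
  simpa [and_assoc] using this

theorem single_spec {u z k : ℕ} {L : List Mon} (h : single u z k L = true) :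
    ∃ e, L.filter (fun e => Nat.beq e.1 u && Nat.beq e.2.1 z) = [e] ∧ e.1 = u ∧ e.2.1 = z ∧ e.2.2.1 = k ∧
      e.2.2.2.natAbs = 1 := by
  unfold single at h
  split at h
  · rename_i e he
    have hm : e ∈ L.filter (fun e => Nat.beq e.1 u && Nat.beq e.2.1 z) := by rw [he]; simp
    have hm' := (List.mem_filter.1 hm).2
    simp only [Bool.and_eq_true] at h hm'
    exact ⟨e, he, Nat.eq_of_beq_eq_true hm'.1, Nat.eq_of_beq_eq_true hm'.2, Nat.eq_of_beq_eq_true h.1,
      Nat.eq_of_beq_eq_true h.2⟩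
  · exact absurd h Bool.false_ne_true

variable {F : Type*} [Field F]

theorem unit_ne_zero {c : ℤ} (h : c.natAbs = 1) : (c : F) ≠ 0 := by
  rcases Int.natAbs_eq c with e | e <;> rw [e, h] <;> simp

theorem ev_ne_zero (a : ℕ) : (ev a : I27 → F) ≠ 0 := fun h => by
  have := congrFun h (cu a)
  simp [ev] at this

theorem mulVec_inj (g : GL I27 F) {w y : I27 → F} (h : g.val *ᵥ w = g.val *ᵥ y) : w = y := by
  have := congrArg (g⁻¹.val *ᵥ ·) h
  simpa [Matrix.mulVec_mulVec] using this

theorem mulVec_inv_self (g : GL I27 F) (w : I27 → F) : g.val *ᵥ (g⁻¹.val *ᵥ w) = w := by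
  rw [Matrix.mulVec_mulVec, ← Units.val_mul, mul_inv_cancel, Units.val_one, Matrix.one_mulVec]

theorem formC_ev_ev {u z k : ℕ} (hu : u < 27) (hz : z < 27) (h : single u z k six = true) (y : I27 → F) :
    ∃ c : F, c ≠ 0 ∧ formC (ev u) (ev z) y = c * cd y k := by
  obtain ⟨e, he, e1, e2, e3, e4⟩ := single_spec h
  refine ⟨(e.2.2.2 : F), unit_ne_zero e4, ?_⟩
  rw [formC, msum_filter six (fun e => Nat.beq e.1 u && Nat.beq e.2.1 z), he]
  · simp [msum, mval, e1, e2, e3, cd_ev hu hu, cd_ev hz hz]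
  · intro m hm hp
    obtain ⟨h1, h2, -⟩ := six_lt hm
    rw [mval, cd_ev hu h1, cd_ev hz h2]
    split
    · split
      · rename_i a b
        rw [a, b] at hp
        simp at hp
      · simp
    · simp

/-- Supported on a set of coordinates. -/
def Supp (A : List ℕ) (x : I27 → F) : Prop := ∀ a < 27, a ∉ A → cd x a = 0

/-- A set of coordinates is invariant. -/
def Inv (g : GL I27 F) (A : List ℕ) : Prop := ∀ x, Supp A x ↔ Supp A (g.val *ᵥ x)

/-- The lines of the listed coordinates are fixed. -/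
def FixS (g : GL I27 F) (S : List ℕ) : Prop := ∀ s ∈ S, s < 27 ∧ ∃ c : F, c ≠ 0 ∧ g.val *ᵥ ev s = c • ev s

theorem supp_line {s : ℕ} (hs : s < 27) {A : List ℕ} (hA : ∀ a ∈ A, a = s) {x : I27 → F} (h : Supp A x) :
    x = cd x s • ev s := by
  refine vec_ext fun a ha => ?_
  rw [cd_smul, cd_ev hs ha]
  by_cases e : a = s
  · rw [if_pos e, e, mul_one]
  · rw [if_neg e, mul_zero]
    exact h a ha fun h' => e (hA a h')

variable {g : GL I27 F}

theorem inv_clo (hg : g ∈ Cfsg.Lie.E6univ F) (hK : ∃ c : F, c ≠ 0 ∧ c ≠ 1) {S : List ℕ} (hS : FixS g S)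
    {acc : List (List ℕ)} (hacc : ∀ A ∈ acc, Inv g A) {c : Clo} (h : okClo S acc c = true) : Inv g c.mem := by
  unfold okClo at h
  cases h0 : Nat.beq c.kind 0 with
  | true =>
    rw [h0] at h
    intro x
    have hall : ∀ y : I27 → F, Supp c.mem y := fun y a ha hn =>
      absurd (mem_iff.1 (kall_krange h a ha)) hn
    exact iff_of_true (hall _) (hall _)
  | false =>
    rw [h0] at h
    cases h1 : Nat.beq c.kind 1 with
    | true =>
      rw [h1] at h
      simp only [Bool.and_eq_true, kall_iff] at h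
      obtain ⟨⟨hxS, hxm⟩, honly⟩ := h
      obtain ⟨hx27, d, hd, hgd⟩ := hS _ (mem_iff.1 hxS)
      have hA : ∀ a ∈ c.mem, a = c.x := fun a ha => Nat.eq_of_beq_eq_true (honly a ha)
      intro y
      refine ⟨fun hy => ?_, fun hy => ?_⟩
      · rw [supp_line hx27 hA hy, Matrix.mulVec_smul, hgd]
        intro a ha hn
        rw [cd_smul, cd_smul, cd_ev hx27 ha, if_neg fun e : a = c.x => hn (by rw [e]; exact mem_iff.1 hxm)]
        simp
      · have e := supp_line hx27 hA hy
        have : g.val *ᵥ y = g.val *ᵥ ((cd (g.val *ᵥ y) c.x * d⁻¹) • ev c.x) := by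
          rw [Matrix.mulVec_smul, hgd, smul_smul, inv_mul_cancel_right₀ hd, ← e]
        rw [mulVec_inj g this]
        intro a ha hn
        rw [cd_smul, cd_ev hx27 ha, if_neg fun e : a = c.x => hn (by rw [e]; exact mem_iff.1 hxm)]
        simp
    | false =>
      rw [h1] at h
      have hget : ∀ i, i < acc.length → Inv g (acc.getD i []) := fun i hi => hacc _ (by
        rw [List.getD_eq_getElem _ _ hi]; exact List.getElem_mem hi)
      cases h2 : Nat.beq c.kind 2 with
      | true =>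
        rw [h2] at h
        simp only [Bool.and_eq_true, blt_true, kall_iff, Bool.or_eq_true, Bool.not_eq_true'] at h
        obtain ⟨⟨⟨hx, hy⟩, hsix⟩, hw⟩ := h
        set X := acc.getD c.x []
        set Y := acc.getD c.y []
        have hchar : ∀ z : I27 → F, Supp c.mem z ↔ ∀ a b, Supp X a → Supp Y b → formC a b z = 0 := by
          intro z
          refine ⟨fun hz a b ha hb => msum_eq_zero fun m hm => ?_, fun hz k hk hn => ?_⟩
          · obtain ⟨h1, h2, h3⟩ := six_lt hm
            rcases hsix m hm with (e | e) | e <;> rw [mem_false] at e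
            · rw [mval, ha _ h1 e]; simp
            · rw [mval, hb _ h2 e]; simp
            · rw [mval, hz _ h3 e]; simp
          · have hk' := hw k (by rw [krange_eq, List.mem_range'_1]; omega)
            rcases hk' with e | e
            · exact absurd (mem_iff.1 e) hn
            obtain ⟨w, -, hw'⟩ := (kex_iff _ _).1 e
            simp only [Bool.and_eq_true, blt_true] at hw'
            obtain ⟨⟨⟨⟨⟨e1, e2⟩, e3⟩, e4⟩, e5⟩, e6⟩ := hw'
            obtain ⟨d, hd, hd'⟩ := formC_ev_ev e4 e5 e6 z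
            have hs : ∀ {u : ℕ} {A : List ℕ}, u < 27 → u ∈ A → Supp A (ev u : I27 → F) := fun hu hA a ha hn => by
              rw [cd_ev hu ha, if_neg]
              exact fun e => hn (e ▸ hA)
            have := hz _ _ (hs e4 (mem_iff.1 e2)) (hs e5 (mem_iff.1 e3))
            rw [hd'] at this
            exact (mul_eq_zero.1 this).resolve_left hd
        intro z
        rw [hchar, hchar]
        refine ⟨fun hz a b ha hb => ?_, fun hz a b ha hb => ?_⟩
        · have h' := formC_inv hg hK (g⁻¹.val *ᵥ a) (g⁻¹.val *ᵥ b) z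
          rw [mulVec_inv_self, mulVec_inv_self] at h'
          rw [h']
          exact hz _ _ ((hget _ hx _).2 (by rwa [mulVec_inv_self])) ((hget _ hy _).2 (by rwa [mulVec_inv_self]))
        · rw [← formC_inv hg hK a b z]
          exact hz _ _ ((hget _ hx _).1 ha) ((hget _ hy _).1 hb)
      | false =>
        rw [h2] at h
        cases h3 : Nat.beq c.kind 3 with
        | false => rw [h3] at h; exact absurd h Bool.false_ne_true
        | true =>
          rw [h3] at h
          simp only [Bool.and_eq_true, blt_true, kall_iff, beq_iff_eq] at h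
          obtain ⟨⟨hx, hy⟩, hm⟩ := h
          have key : ∀ z : I27 → F, Supp c.mem z ↔ Supp (acc.getD c.x []) z ∧ Supp (acc.getD c.y []) z := by
            intro z
            have hm' : ∀ a < 27, (a ∈ c.mem ↔ a ∈ acc.getD c.x [] ∧ a ∈ acc.getD c.y []) := fun a ha => by
              rw [← mem_iff, hm a (by rw [krange_eq, List.mem_range'_1]; omega), Bool.and_eq_true, mem_iff, mem_iff]
            refine ⟨fun hz => ⟨fun a ha hn => hz a ha fun h' => hn ((hm' a ha).1 h').1,
              fun a ha hn => hz a ha fun h' => hn ((hm' a ha).1 h').2⟩, fun hz a ha hn => ?_⟩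
            by_cases ha' : a ∈ acc.getD c.x []
            · exact hz.2 a ha fun h' => hn ((hm' a ha).2 ⟨ha', h'⟩)
            · exact hz.1 a ha ha'
          intro z
          rw [key, key, hget _ hx z, hget _ hy z]

theorem inv_clos (hg : g ∈ Cfsg.Lie.E6univ F) (hK : ∃ c : F, c ≠ 0 ∧ c ≠ 1) {S : List ℕ} (hS : FixS g S) {v : ℕ} :
    ∀ (L : List Clo) (acc : List (List ℕ)), (∀ A ∈ acc, Inv g A) → okClos S v L acc = true →
      (acc ++ L.map fun c => c.mem) ≠ [] ∧ Inv g ((acc ++ L.map fun c => c.mem).getLastD []) ∧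
        v ∈ (acc ++ L.map fun c => c.mem).getLastD [] := by
  intro L
  induction L with
  | nil =>
    intro acc hacc h
    have hv : v ∈ acc.getLastD [] := mem_iff.1 h
    have hne : acc ≠ [] := fun e => by rw [e] at hv; exact absurd hv (List.not_mem_nil)
    simp only [List.map_nil, List.append_nil]
    refine ⟨hne, ?_, hv⟩
    rw [List.getLastD_eq_getLast?, List.getLast?_eq_some_getLast hne]
    exact hacc _ (List.getLast_mem hne)
  | cons c L ih =>
    intro acc hacc h
    have h' : okClo S acc c = true ∧ okClos S v L (acc ++ [c.mem]) = true := (Bool.and_eq_true _ _).mp h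
    have := ih (acc ++ [c.mem]) (fun A hA => by
      rcases List.mem_append.1 hA with hA | hA
      · exact hacc A hA
      · rw [List.mem_singleton.1 hA]; exact inv_clo hg hK hS hacc h'.1) h'.2
    simpa [List.append_assoc] using this

theorem zero_spec (hg : g ∈ Cfsg.Lie.E6univ F) (hK : ∃ c : F, c ≠ 0 ∧ c ≠ 1) {S : List ℕ} (hS : FixS g S)
    {st : Step} (hv : st.v < 27) (h : okClos S st.v st.sets [] = true) {u : ℕ} (hu : u < 27)
    (hz : zeroSet st u = true) : cd (g.val *ᵥ ev st.v) u = 0 := by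
  obtain ⟨-, hI, hmem⟩ := inv_clos hg hK hS st.sets [] (fun A hA => absurd hA (List.not_mem_nil)) h
  simp only [List.nil_append] at hI hmem
  simp only [zeroSet, Bool.not_eq_true', mem_false] at hz
  refine (hI (ev st.v)).1 (fun a ha hn => ?_) u hu hz
  rw [cd_ev hv ha, if_neg]
  exact fun e => hn (e ▸ hmem)

theorem oneInto_app {r u b : ℕ} (h : oneInto r u b = true) :
    ∃ s : F, s ≠ 0 ∧ ∀ w : I27 → F, app r w b = s * cd w u := by
  unfold oneInto at h
  split at h
  · rename_i e he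
    simp only [Bool.and_eq_true] at h
    refine ⟨(e.2.2 : F), unit_ne_zero (Nat.eq_of_beq_eq_true h.2), fun w => ?_⟩
    rw [app, he, ← Nat.eq_of_beq_eq_true h.1]
    simp
  · exact absurd h Bool.false_ne_true

theorem app_zero {r b : ℕ} {w : I27 → F} (h : ∀ e ∈ into r b, cd w e.1 = 0) : app r w b = 0 := by
  refine List.sum_eq_zero fun z hz => ?_
  obtain ⟨e, he, rfl⟩ := List.mem_map.1 hz
  rw [h e he, mul_zero]

theorem xg_fix {S : List ℕ} {r : ℕ} (hr : r < 72) (h : noSrc S r = true) {s : ℕ} (hs : s ∈ S) (hs' : s < 27) (t : F) :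
    (xg r t).val *ᵥ ev s = ev s := by
  refine vec_ext fun a ha => ?_
  rw [cd_xg hr t _ ha, app_zero (r := r), mul_zero, add_zero]
  intro e he
  have he' : e ∈ ent r := (List.mem_filter.1 he).1
  rw [noSrc, kall_iff] at h
  have hne := h e he'
  simp only [Bool.not_eq_true', mem_false] at hne
  rw [cd_ev hs' (ent_good r e he').1, if_neg]
  exact fun e' => hne (e' ▸ hs)

theorem fix_mul {S : List ℕ} {r : ℕ} (hr : r < 72) (h : noSrc S r = true) (hS : FixS g S) (t : F) :
    FixS (xg r t * g) S := fun s hs => by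
  obtain ⟨hs', c, hc, e⟩ := hS s hs
  refine ⟨hs', c, hc, ?_⟩
  rw [Units.val_mul, ← Matrix.mulVec_mulVec, e, Matrix.mulVec_smul, xg_fix hr h hs hs']

/-- The group generated by the root elements. -/
def rootGp (F : Type*) [Field F] : Subgroup (GL I27 F) :=
  Subgroup.closure {g | ∃ (r : ℕ) (t : F), r < 72 ∧ g = xg r t}

theorem xg_rootGp {r : ℕ} (hr : r < 72) (t : F) : xg r t ∈ rootGp F := Subgroup.subset_closure ⟨r, t, hr, rfl⟩

theorem rootGp_le : rootGp F ≤ Cfsg.Lie.E6univ F := (Subgroup.closure_le _).2 (by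
  rintro _ ⟨r, t, -, rfl⟩; exact xg_mem t)

theorem val_mul_mulVec (a b : GL I27 F) (w : I27 → F) : (a * b).val *ᵥ w = a.val *ᵥ (b.val *ᵥ w) := by
  rw [Units.val_mul, Matrix.mulVec_mulVec]

theorem reach {S : List ℕ} {v : ℕ} : ∀ (L : List (ℕ × ℕ × ℕ)) (acc : List ℕ), okPath S L acc = true →
    (∀ u ∈ acc, ∀ g : GL I27 F, FixS g S → cd (g.val *ᵥ ev v) u ≠ 0 →
      ∃ h ∈ rootGp F, FixS (h * g) S ∧ cd ((h * g).val *ᵥ ev v) v ≠ 0) →
    ∀ u, (u ∈ acc ∨ u ∈ L.map fun p => p.1) → ∀ g : GL I27 F, FixS g S → cd (g.val *ᵥ ev v) u ≠ 0 →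
      ∃ h ∈ rootGp F, FixS (h * g) S ∧ cd ((h * g).val *ᵥ ev v) v ≠ 0 := by
  intro L
  induction L with
  | nil => intro acc _ hacc u hu; exact hacc u (by simpa using hu)
  | cons p L ih =>
    intro acc h hacc u hu
    have h' : (Nat.blt p.2.1 72 && Nat.blt p.2.2 27 && noSrc S p.2.1 && oneInto p.2.1 p.1 p.2.2 &&
        mem p.2.2 acc) = true ∧ okPath S L (p.1 :: acc) = true := (Bool.and_eq_true _ _).mp h
    obtain ⟨hp, hrest⟩ := h'
    simp only [Bool.and_eq_true, blt_true] at hp
    obtain ⟨⟨⟨⟨hr, hb⟩, hfix⟩, hone⟩, hmem⟩ := hp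
    refine ih (p.1 :: acc) hrest (fun w hw g hS hne => ?_) u ?_
    · rcases List.mem_cons.1 hw with rfl | hw
      · by_cases hb0 : cd (g.val *ᵥ ev v) p.2.2 = 0
        · obtain ⟨s, hs, happ⟩ := oneInto_app (F := F) hone
          have hS' := fix_mul hr hfix hS (1 : F)
          have hne' : cd ((xg p.2.1 (1 : F) * g).val *ᵥ ev v) p.2.2 ≠ 0 := by
            rw [val_mul_mulVec, cd_xg hr 1 _ hb, hb0, zero_add, one_mul, happ]
            exact mul_ne_zero hs hne
          obtain ⟨h1, hh1, hS1, hv1⟩ := hacc _ (mem_iff.1 hmem) _ hS' hne'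
          exact ⟨h1 * xg p.2.1 1, mul_mem hh1 (xg_rootGp hr 1), by rwa [mul_assoc], by rwa [mul_assoc]⟩
        · exact hacc _ (mem_iff.1 hmem) g hS hb0
      · exact hacc w hw g hS hne
    · rcases hu with hu | hu
      · exact Or.inl (List.mem_cons_of_mem _ hu)
      · rw [List.map_cons] at hu
        rcases List.mem_cons.1 hu with rfl | hu
        · exact Or.inl List.mem_cons_self
        · exact Or.inr hu

theorem witness (hg : g ∈ Cfsg.Lie.E6univ F) (hK : ∃ c : F, c ≠ 0 ∧ c ≠ 1) {S : List ℕ} (hS : FixS g S) {v : ℕ}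
    (hv : v < 27) (hvS : v ∉ S) {Z : ℕ → Bool} (hZ : ∀ u < 27, Z u = true → cd (g.val *ᵥ ev v) u = 0)
    {R : List ℕ} (hR : v ∈ R) {w : Wit} (h : okWit S Z R v w = true) :
    ∃ u ∈ R, cd (g.val *ᵥ ev v) u ≠ 0 := by
  by_contra hno
  push Not at hno
  cases w with
  | any =>
    simp only [okWit, kall_iff, Bool.or_eq_true, mem_iff] at h
    set y := g.val *ᵥ ev v with hy
    have hsupp : ∀ a < 27, a ∉ S → cd y a = 0 := fun a ha hn => by
      rcases h a (by rw [krange_eq, List.mem_range'_1]; omega) with (e | e) | e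
      · exact absurd e hn
      · exact hZ a ha e
      · exact hno a e
    have hback : ∀ s ∈ S, cd (g⁻¹.val *ᵥ ev s) v = 0 := fun s hs => by
      obtain ⟨hs', c, hc, e⟩ := hS s hs
      have : g.val *ᵥ (c⁻¹ • ev s) = ev s := by rw [Matrix.mulVec_smul, e, smul_smul, inv_mul_cancel₀ hc, one_smul]
      rw [show g⁻¹.val *ᵥ ev s = c⁻¹ • ev s from mulVec_inj g (by rw [mulVec_inv_self, this]), cd_smul,
        cd_ev hs' hv, if_neg (fun e : v = s => hvS (by rw [e]; exact hs)), mul_zero]
    have hsum : y = ∑ x : I27, y x • (Pi.single x 1 : I27 → F) := by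
      funext z; simp [Finset.sum_apply, Pi.single_apply]
    have : cd (g⁻¹.val *ᵥ y) v = 0 := by
      rw [hsum, Matrix.mulVec_sum, cd, Finset.sum_apply]
      refine Finset.sum_eq_zero fun x _ => ?_
      obtain ⟨a, ha, rfl⟩ := cu_surj x
      rw [Matrix.mulVec_smul, Pi.smul_apply]
      by_cases hs : a ∈ S
      · have := hback a hs
        rw [cd, ev] at this
        rw [this, smul_zero]
      · rw [show y (cu a) = 0 from hsupp a ha hs, zero_smul]
    rw [hy, Matrix.mulVec_mulVec, ← Units.val_mul, inv_mul_cancel, Units.val_one, Matrix.one_mulVec,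
      cd_ev hv hv, if_pos rfl] at this
    exact one_ne_zero this
  | adj i k =>
    simp only [okWit, Bool.and_eq_true, blt_true, mem_iff, kall_iff, Bool.or_eq_true, Bool.not_eq_true'] at h
    obtain ⟨⟨⟨⟨hi, hi'⟩, hk⟩, hs⟩, hall⟩ := h
    obtain ⟨-, c, hc, e⟩ := hS i hi
    obtain ⟨d, hd, hd'⟩ := formC_ev_ev hi' hk hs (ev v : I27 → F)
    rw [cd_ev hv hv, if_pos rfl, mul_one, ← formC_inv hg hK, e] at hd'
    refine hd (hd'.symm.trans (msum_eq_zero fun m hm => ?_))
    obtain ⟨h1, -, h3⟩ := six_lt hm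
    by_cases hmi : m.1 = i
    · have : cd (g.val *ᵥ ev v) m.2.2.1 = 0 := by
        rcases hall m hm with (e' | e') | e'
        · rw [hmi] at e'; simp at e'
        · exact hZ _ h3 e'
        · exact hno _ e'
      rw [mval, this, mul_zero]
    · rw [mval, cd_smul, cd_ev hi' h1, if_neg hmi]; simp
  | pair i j =>
    simp only [okWit, Bool.and_eq_true, blt_true, mem_iff] at h
    obtain ⟨⟨⟨⟨hi, hj⟩, hs⟩, hi'⟩, hj'⟩ := h
    obtain ⟨-, c, hc, e⟩ := hS i hi
    obtain ⟨-, c', hc', e'⟩ := hS j hj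
    obtain ⟨d, hd, hd'⟩ := formC_ev_ev hi' hj' hs (ev v : I27 → F)
    rw [cd_ev hv hv, if_pos rfl, mul_one, ← formC_inv hg hK, e, e'] at hd'
    refine hd (hd'.symm.trans (msum_eq_zero fun m hm => ?_))
    obtain ⟨h1, h2, -⟩ := six_lt hm
    rw [mval, cd_smul, cd_smul, cd_ev hi' h1, cd_ev hj' h2]
    by_cases hmi : m.1 = i
    · by_cases hmj : m.2.1 = j
      · obtain ⟨e0, he, -, -, ek, -⟩ := single_spec hs
        have hm0 : m ∈ six.filter (fun e => Nat.beq e.1 i && Nat.beq e.2.1 j) :=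
          List.mem_filter.2 ⟨hm, by rw [hmi, hmj]; simp⟩
        rw [he, List.mem_singleton] at hm0
        rw [hm0, ek, hno v hR, mul_zero]
      · rw [if_neg hmj]; simp
    · rw [if_neg hmi]; simp

theorem clear_spec {S : List ℕ} (hK : ∃ c : F, c ≠ 0 ∧ c ≠ 1) {st : Step}
    (hv : st.v < 27) (hclo : okClos S st.v st.sets [] = true) :
    ∀ (L : List (ℕ × ℕ)) (acc : List ℕ) (g : GL I27 F), g ∈ Cfsg.Lie.E6univ F → FixS g S →
      cd (g.val *ᵥ ev st.v) st.v ≠ 0 → (∀ c ∈ acc, c < 27 ∧ cd (g.val *ᵥ ev st.v) c = 0) →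
      okClear S (zeroSet st) st.v L acc = true →
      ∃ h ∈ rootGp F, FixS (h * g) S ∧ cd ((h * g).val *ᵥ ev st.v) st.v ≠ 0 ∧
        ∀ c ∈ (L.map fun p => p.2).reverse ++ acc, cd ((h * g).val *ᵥ ev st.v) c = 0 := by
  intro L
  induction L with
  | nil =>
    intro acc g _ hS hne hacc _
    exact ⟨1, one_mem _, by rwa [one_mul], by rwa [one_mul], fun c hc => by
      rw [one_mul]; exact (hacc c (by simpa using hc)).2⟩
  | cons p L ih =>
    intro acc g hg hS hne hacc h
    have h' : (Nat.blt p.1 72 && Nat.blt p.2 27 && noSrc S p.1 && oneInto p.1 st.v p.2 &&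
        (into p.1 st.v).isEmpty && !(Nat.beq p.2 st.v) &&
        kall (fun c => kall (fun e => zeroSet st e.1 || mem e.1 acc) (into p.1 c)) acc) = true ∧
        okClear S (zeroSet st) st.v L (p.2 :: acc) = true := (Bool.and_eq_true _ _).mp h
    obtain ⟨hp, hrest⟩ := h'
    simp only [Bool.and_eq_true, blt_true, kall_iff, Bool.or_eq_true, List.isEmpty_iff, mem_iff] at hp
    obtain ⟨⟨⟨⟨⟨⟨hr, hb⟩, hfix⟩, hone⟩, hemp⟩, -⟩, hkeep⟩ := hp
    obtain ⟨s, hs, happ⟩ := oneInto_app (F := F) hone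
    set w := g.val *ᵥ ev st.v with hw
    set t := -(cd w p.2) / (s * cd w st.v) with ht
    have hv' : cd ((xg p.1 t * g).val *ᵥ ev st.v) st.v = cd w st.v := by
      rw [val_mul_mulVec, cd_xg hr t _ hv, app_zero (fun e he => by rw [hemp] at he; simp at he), mul_zero, add_zero]
    obtain ⟨h1, hh1, hS1, hv1, hz1⟩ := ih (p.2 :: acc) (xg p.1 t * g) (mul_mem (xg_mem t) hg)
      (fix_mul hr hfix hS t) (by rw [hv']; exact hne) (fun c hc => by
        rcases List.mem_cons.1 hc with rfl | hc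
        · refine ⟨hb, ?_⟩
          rw [val_mul_mulVec, cd_xg hr t _ hb, happ, ← hw, ht, div_mul_cancel₀ _ (mul_ne_zero hs hne),
            add_neg_cancel]
        · obtain ⟨hc', hc0⟩ := hacc c hc
          refine ⟨hc', ?_⟩
          rw [val_mul_mulVec, cd_xg hr t _ hc', hc0, app_zero (fun e he => ?_), mul_zero, add_zero]
          rcases hkeep c hc e he with e' | e'
          · exact zero_spec hg hK hS hv hclo (ent_good p.1 e (List.mem_filter.1 he).1).1 e'
          · exact (hacc _ e').2) hrest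
    refine ⟨h1 * xg p.1 t, mul_mem hh1 (xg_rootGp hr t), by rwa [mul_assoc], by rwa [mul_assoc], fun c hc => ?_⟩
    rw [mul_assoc]
    exact hz1 c (by simpa [List.map_cons, List.reverse_cons, List.append_assoc] using hc)

theorem prop_spec (hg : g ∈ Cfsg.Lie.E6univ F) (hK : ∃ c : F, c ≠ 0 ∧ c ≠ 1) {v : ℕ} (hv : v < 27) {Z : ℕ → Bool}
    (hZ : ∀ u < 27, Z u = true → cd (g.val *ᵥ ev v) u = 0) (hne : cd (g.val *ᵥ ev v) v ≠ 0) :
    ∀ (L : List (ℕ × ℕ)) (acc : List ℕ), (∀ u ∈ acc, cd (g.val *ᵥ ev v) u = 0) → okProp Z v L acc = true →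
      ∀ u < 27, u ≠ v → cd (g.val *ᵥ ev v) u = 0 := by
  intro L
  induction L with
  | nil =>
    intro acc hacc h u hu huv
    have h : (kall (fun u => Nat.beq u v || Z u || mem u acc) (krange 0 27)) = true := h
    have := kall_krange h u hu
    simp only [Bool.or_eq_true, mem_iff] at this
    rcases this with (e | e) | e
    · exact absurd (Nat.eq_of_beq_eq_true e) huv
    · exact hZ u hu e
    · exact hacc u e
  | cons p L ih =>
    intro acc hacc h
    have h' : (Nat.blt p.1 27 && !(Nat.beq p.2 v) &&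
        (match live Z acc p.1 with
        | [e] => Nat.beq e.2.2.2.natAbs 1 &&
            ((Nat.beq e.1 v && Nat.beq e.2.1 p.2) || (Nat.beq e.2.1 v && Nat.beq e.1 p.2))
        | _ => false)) = true ∧ okProp Z v L (p.2 :: acc) = true := (Bool.and_eq_true _ _).mp h
    obtain ⟨hp, hrest⟩ := h'
    simp only [Bool.and_eq_true, blt_true] at hp
    obtain ⟨⟨hq, -⟩, hm⟩ := hp
    refine ih (p.2 :: acc) (fun u hu => ?_) hrest
    rcases List.mem_cons.1 hu with rfl | hu
    swap
    · exact hacc u hu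
    split at hm
    · rename_i e he
      simp only [Bool.and_eq_true, Bool.or_eq_true] at hm
      obtain ⟨hun, hpos⟩ := hm
      set y := g.val *ᵥ ev v with hy
      have hkn : ∀ a < 27, (Z a || mem a acc) = true → cd y a = 0 := fun a ha h' => by
        rcases Bool.or_eq_true _ _ |>.mp h' with h' | h'
        · exact hZ a ha h'
        · exact hacc a (mem_iff.1 h')
      have hA : formA (ev v : I27 → F) (g⁻¹.val *ᵥ ev p.1) = 0 := by
        refine msum_eq_zero fun m hm' => ?_
        obtain ⟨m1, m2, -⟩ := dmons_lt hm'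
        rw [mval, cd_ev hv m1, cd_ev hv m2]
        have hd : kall (fun m => !(Nat.beq m.1 m.2.1)) dmons = true := by decide +kernel
        have := (kall_iff _ _).1 hd m hm'
        simp only [Bool.not_eq_true'] at this
        have hne' := Nat.ne_of_beq_eq_false this
        by_cases a : m.1 = v
        · rw [if_neg (fun b : m.2.1 = v => hne' (a.trans b.symm))]; simp
        · rw [if_neg a]; simp
      rw [← formA_inv hg hK, mulVec_inv_self, formA,
        msum_filter dmons (fun e => Nat.beq e.2.2.1 p.1 && !(Z e.1 || mem e.1 acc || (Z e.2.1 || mem e.2.1 acc)))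
          _ _ _ (fun m hm' hp' => ?_)] at hA
      · have he' : dmons.filter (fun e => Nat.beq e.2.2.1 p.1 && !(Z e.1 || mem e.1 acc || (Z e.2.1 || mem e.2.1 acc)))
            = [e] := he
        have hek : e.2.2.1 = p.1 := by
          have : e ∈ dmons.filter (fun e => Nat.beq e.2.2.1 p.1 &&
              !(Z e.1 || mem e.1 acc || (Z e.2.1 || mem e.2.1 acc))) := by rw [he']; simp
          have := (List.mem_filter.1 this).2
          simp only [Bool.and_eq_true] at this
          exact Nat.eq_of_beq_eq_true this.1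
        rw [he'] at hA
        simp only [msum, List.map_singleton, List.sum_singleton, mval, hek, cd_ev hq hq, if_pos] at hA
        have hcoef := unit_ne_zero (F := F) (Nat.eq_of_beq_eq_true hun)
        rw [← hy] at hA
        rcases hpos with ⟨e1, e2⟩ | ⟨e1, e2⟩ <;>
          rw [Nat.eq_of_beq_eq_true e1, Nat.eq_of_beq_eq_true e2] at hA <;> simpa [hcoef, hne] using hA
      · obtain ⟨m1, m2, m3⟩ := dmons_lt hm'
        rw [mval, cd_ev hq m3]
        by_cases a : m.2.2.1 = p.1
        · simp only [a, Nat.beq_refl, Bool.true_and, Bool.not_eq_false', Bool.or_eq_true] at hp'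
          rcases hp' with e' | e'
          · rw [← hy, hkn _ m1 (by simpa using e')]; simp
          · rw [← hy, hkn _ m2 (by simpa using e')]; simp
        · rw [if_neg a]; simp
    · exact absurd hm Bool.false_ne_true

theorem step_spec (hg : g ∈ Cfsg.Lie.E6univ F) (hK : ∃ c : F, c ≠ 0 ∧ c ≠ 1) {S : List ℕ} (hS : FixS g S) {st : Step}
    (h : okStep S st = true) : ∃ h ∈ rootGp F, FixS (h * g) (st.v :: S) := by
  simp only [okStep, Bool.and_eq_true, blt_true, Bool.not_eq_true', mem_false] at h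
  obtain ⟨⟨⟨⟨⟨⟨hv, hvS⟩, hclo⟩, hpath⟩, hwit⟩, hclear⟩, hprop⟩ := h
  have hZ : ∀ (g : GL I27 F), g ∈ Cfsg.Lie.E6univ F → FixS g S → ∀ u < 27, zeroSet st u = true →
      cd (g.val *ᵥ ev st.v) u = 0 := fun g hg hS u hu hz => zero_spec hg hK hS hv hclo hu hz
  obtain ⟨u, hu, hune⟩ := witness hg hK hS hv hvS (hZ g hg hS) List.mem_cons_self hwit
  obtain ⟨h1, hh1, hS1, hne1⟩ := reach (v := st.v) st.path [st.v] hpath (fun w hw g hS hne => by
    rw [List.mem_singleton.1 hw] at hne
    exact ⟨1, one_mem _, by rwa [one_mul], by rwa [one_mul]⟩) u (by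
      rcases List.mem_cons.1 hu with rfl | hu
      · exact Or.inl List.mem_cons_self
      · exact Or.inr hu) g hS hune
  have hg1 : h1 * g ∈ Cfsg.Lie.E6univ F := mul_mem (rootGp_le hh1) hg
  obtain ⟨h2, hh2, hS2, hne2, hz2⟩ := clear_spec hK hv hclo st.clear [] (h1 * g) hg1 hS1 hne1
    (fun c hc => absurd hc List.not_mem_nil) hclear
  have hg2 : h2 * (h1 * g) ∈ Cfsg.Lie.E6univ F := mul_mem (rootGp_le hh2) hg1
  have hall := prop_spec hg2 hK hv (hZ _ hg2 hS2) hne2 st.prop _ (fun c hc => hz2 c (by simpa using hc)) hprop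
  refine ⟨h2 * h1, mul_mem hh2 hh1, fun s hs => ?_⟩
  rw [mul_assoc]
  rcases List.mem_cons.1 hs with rfl | hs
  · refine ⟨hv, _, hne2, vec_ext fun a ha => ?_⟩
    rw [cd_smul, cd_ev hv ha]
    by_cases e : a = st.v
    · rw [if_pos e, e, mul_one]
    · rw [if_neg e, mul_zero, hall a ha e]
  · exact hS2 s hs

theorem to_diagonal {g : GL I27 F} (hg : g ∈ Cfsg.Lie.E6univ F) (hK : ∃ c : F, c ≠ 0 ∧ c ≠ 1) :
    ∃ h ∈ rootGp F, ∀ a < 27, ∃ c : F, c ≠ 0 ∧ (h * g).val *ᵥ ev a = c • ev a := by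
  suffices key : ∀ (L : List Step) (S : List ℕ) (g : GL I27 F), g ∈ Cfsg.Lie.E6univ F → FixS g S →
      okSteps L S = true → ∃ h ∈ rootGp F, ∀ a < 27, ∃ c : F, c ≠ 0 ∧ (h * g).val *ᵥ ev a = c • ev a from
    key steps [] g hg (fun s hs => absurd hs List.not_mem_nil) okSteps_all
  intro L
  induction L with
  | nil =>
    intro S g _ hS h
    refine ⟨1, one_mem _, fun a ha => ?_⟩
    have h : (kall (fun u => mem u S) (krange 0 27)) = true := h
    rw [one_mul]
    exact (hS a (mem_iff.1 (kall_krange h a ha))).2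
  | cons st L ih =>
    intro S g hg hS h
    have h' : okStep S st = true ∧ okSteps L (st.v :: S) = true := (Bool.and_eq_true _ _).mp h
    obtain ⟨h1, hh1, hS1⟩ := step_spec hg hK hS h'.1
    obtain ⟨h2, hh2, hd⟩ := ih _ _ (mul_mem (rootGp_le hh1) hg) hS1 h'.2
    exact ⟨h2 * h1, mul_mem hh2 hh1, fun a ha => by rw [mul_assoc]; exact hd a ha⟩

end Cfsg.Lib.Chev.E6Cubic
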