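import Cfsg.Agent.Chev.E6Cubic.Torus
import Cfsg.Agent.Chev.Univ.StMultiplier
import Cfsg.Agent.S2395
import Cfsg.Agent.S1054

/-! The stabiliser of the cubic form modulo its center is the Chevalley group of type E₆. -/

set_option autoImplicit false
set_option maxHeartbeats 1000000

open Cfsg.Lie
open scoped commutatorElement

namespace Cfsg.Lib.Chev.E6Cubic

variable (F : Type*) [Field F]

/-- The image of a generator. -/
noncomputable def gf (p : Fin chevE6.nroots × F) : GL I27 F := xg p.1.val p.2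

theorem nroots_E6 : chevE6.nroots = 72 := by decide +kernel

theorem lift_stX6 (r : ℕ) (t : F) : FreeGroup.lift (gf F) (chevE6.stX r t) = xg r t := by
  rw [ChevalleyDatum.stX]
  split
  · rw [FreeGroup.lift_apply_of]; rfl
  · rename_i h
    rw [nroots_E6] at h
    rw [map_one, xg, dif_neg h]

theorem lift_rels6 {g : FreeGroup (Fin chevE6.nroots × F)} (hg : g ∈ chevE6.steinbergRelsAB F) :
    FreeGroup.lift (gf F) g = 1 := by
  rcases hg with ⟨r, t, u, hr, rfl⟩ | ⟨r, s, t, u, hr, hs, h1, h2, rfl⟩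
  · rw [nroots_E6] at hr
    rw [map_mul, map_mul, map_inv, lift_stX6, lift_stX6, lift_stX6, xg_mul hr, mul_inv_cancel]
  · rw [nroots_E6] at hr hs
    rw [map_mul, map_mul, map_mul, map_mul, map_inv, map_inv, map_inv, lift_stX6, lift_stX6,
      ChevalleyDatum.stWord, map_list_prod, List.map_map, mul_inv_eq_one]
    rw [xg_comm hr hs h1 h2]
    exact congrArg List.prod (List.map_congr_left fun p _ => (lift_stX6 F p.1 p.2).symm)

/-- The map of the cover to matrices. -/
noncomputable def σGL : chevE6.SteinbergCover F →* GL I27 F :=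
  PresentedGroup.toGroup (f := gf F) fun _ hg => lift_rels6 F hg

theorem σGL_mem (z : chevE6.SteinbergCover F) : σGL F z ∈ E6univ F := by
  have : ⊤ ≤ (E6univ F).comap (σGL F) := by
    rw [← PresentedGroup.closure_range_of (chevE6.steinbergRelsAB F)]
    refine (Subgroup.closure_le _).2 ?_
    rintro x ⟨p, rfl⟩
    show σGL F _ ∈ E6univ F
    rw [σGL, PresentedGroup.toGroup.of]
    exact xg_mem _
  exact this (Subgroup.mem_top z)

/-- The map of the cover to the stabiliser. -/
noncomputable def σ6 : chevE6.SteinbergCover F →* E6univ F := (σGL F).codRestrict (E6univ F) (σGL_mem F)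

theorem σ6_surj (hK : ∃ c : F, c ≠ 0 ∧ c ≠ 1) : Function.Surjective (σ6 F) := by
  intro g
  have : rootGp F ≤ (σGL F).range := by
    refine (Subgroup.closure_le _).2 ?_
    rintro x ⟨r, t, hr, rfl⟩
    refine ⟨PresentedGroup.of (⟨r, by rw [nroots_E6]; exact hr⟩, t), ?_⟩
    exact PresentedGroup.toGroup.of _
  obtain ⟨z, hz⟩ := this (generated g.2 hK)
  exact ⟨z, Subtype.ext hz⟩

theorem xg_ne_one : xg 56 (1 : F) ≠ 1 := by
  intro h
  have h' := congrArg Units.val h
  rw [xg_val (by norm_num), xm, one_smul, Units.val_one, add_eq_left] at h'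
  obtain ⟨e, he, hne⟩ : ∃ e ∈ ent 56, (totE e.1 e.2.1 (ent 56)).natAbs = 1 := by
    have : kex (fun e => Nat.beq (totE e.1 e.2.1 (ent 56)).natAbs 1) (ent 56) = true := by decide +kernel
    obtain ⟨e, he, h⟩ := (kex_iff _ _).1 this
    exact ⟨e, he, Nat.eq_of_beq_eq_true h⟩
  obtain ⟨h1, h2⟩ := ent_good 56 e he
  have := toMat_apply (F := F) (ent_good 56) h1 h2
  rw [h', Matrix.zero_apply] at this
  exact unit_ne_zero hne this.symm

theorem iso (F : Type*) [Field F] (hK : ∃ c : F, c ≠ 0 ∧ c ≠ 1) : Nonempty (E6 F ≃* ↥(chevE6.group F)) := by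
  have hD : chevE6 ∈ [chevG2, chevB2, chevD4, chevF4, chevE6, chevE7, chevE8] := by simp
  have hperf : commutator (chevE6.SteinbergCover F) = ⊤ :=
    Cfsg.Agent.S2395.result chevE6 hD fun _ => hK
  have hsurj := σ6_surj F hK
  have hU : commutator (E6univ F) = ⊤ := by
    rw [commutator_def, ← Subgroup.map_top_of_surjective _ hsurj, ← Subgroup.map_commutator, ← commutator_def, hperf]
  have hcen : Subgroup.center (E6 F) = ⊥ := by
    rw [eq_bot_iff]
    intro q hq
    obtain ⟨z, rfl⟩ := QuotientGroup.mk'_surjective _ q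
    rw [Subgroup.mem_bot]
    refine (QuotientGroup.eq_one_iff z).2 (Univ.preimage_central hU fun g => ?_)
    rw [← QuotientGroup.eq_one_iff]
    have := Subgroup.mem_center_iff.1 hq (QuotientGroup.mk' _ g)
    show QuotientGroup.mk' (Subgroup.center (E6univ F)) ⁅g, z⁆ = 1
    rw [map_commutatorElement, commutatorElement_eq_one_iff_mul_comm]
    exact this
  obtain ⟨C, S, hN, ok⟩ := St.exists_okSt hD
  have hθ₀ : ∀ r < chevE6.nroots, ∀ t, St.toChev S (St.ab_subset (D := chevE6))
      (St.pgen (chevE6.steinbergRelsAB F) r t) = S.ok.xG r t := fun r hr t => St.toChev_pgen S _ hr t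
  set θ₀ := St.toChev S (St.ab_subset (D := chevE6) (K := F)) with hdef
  set P := St.presentedPres S hN ok (subset_refl (chevE6.steinbergRelsAB F)) θ₀ hθ₀ with hP
  have hgen := St.presentedPres_gen_top S hN ok (subset_refl (chevE6.steinbergRelsAB F)) θ₀ hθ₀
  have hran : θ₀.range = chevE6.group F := St.range_eq_group P hgen
  let θ : chevE6.SteinbergCover F →* ↥(chevE6.group F) :=
    θ₀.codRestrict (chevE6.group F) fun g => hran ▸ ⟨g, rfl⟩
  have hθs : Function.Surjective θ := fun g => by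
    obtain ⟨z, hz⟩ : g.1 ∈ θ₀.range := hran.symm ▸ g.2
    exact ⟨z, Subtype.ext hz⟩
  let q : chevE6.SteinbergCover F →* E6 F := (QuotientGroup.mk' _).comp (σ6 F)
  have hqs : Function.Surjective q := (QuotientGroup.mk'_surjective _).comp hsurj
  have hle : θ.ker ≤ q.ker := by
    intro z hz
    rw [MonoidHom.ker_codRestrict] at hz
    have hzc := (P.kernel hgen hz).2
    rw [MonoidHom.mem_ker, ← Subgroup.mem_bot, ← hcen, Subgroup.mem_center_iff]
    intro y
    obtain ⟨w, rfl⟩ := hqs y
    rw [← map_mul, ← map_mul, Subgroup.mem_center_iff.1 hzc w]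
  let ψ : ↥(chevE6.group F) →* E6 F := θ.liftOfSurjective hθs ⟨q, hle⟩
  have hψ : ∀ z, ψ (θ z) = q z := fun z => MonoidHom.liftOfRightInverse_comp_apply _ _ _ _ z
  have hψs : Function.Surjective ψ := fun y => by
    obtain ⟨z, rfl⟩ := hqs y
    exact ⟨θ z, hψ z⟩
  have hsimp := (Cfsg.Agent.S1054.result (F := F) chevE6 (by simp)).1
  rcases hsimp.eq_bot_or_eq_top_of_normal ψ.ker inferInstance with h | h
  · exact ⟨(MulEquiv.ofBijective ψ ⟨(MonoidHom.ker_eq_bot_iff ψ).1 h, hψs⟩).symm⟩
  exfalso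
  have hall : ∀ z : E6univ F, z ∈ Subgroup.center (E6univ F) := fun z => by
    obtain ⟨w, hw⟩ := hψs (QuotientGroup.mk' _ z)
    have : ψ w = 1 := MonoidHom.mem_ker.1 (h ▸ Subgroup.mem_top w)
    rw [this] at hw
    exact (QuotientGroup.eq_one_iff z).1 hw.symm
  have hbot : commutator (E6univ F) = ⊥ := by
    rw [commutator_def, Subgroup.commutator_eq_bot_iff_le_centralizer]
    intro z _
    rw [Subgroup.mem_centralizer_iff]
    exact fun y _ => Subgroup.mem_center_iff.1 (hall z) y
  have hone : (⟨xg 56 (1 : F), xg_mem _⟩ : E6univ F) ∈ (⊥ : Subgroup (E6univ F)) := by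
    rw [← hbot, hU]; exact Subgroup.mem_top _
  exact xg_ne_one F (congrArg Subtype.val (Subgroup.mem_bot.1 hone))

end Cfsg.Lib.Chev.E6Cubic
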