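import Cfsg.Agent.Chev.E6Cubic.Data
import Cfsg.Prelude.Def_E6

/-! The cubic form as a sum of monomials and its polar forms. -/

set_option autoImplicit false

namespace Cfsg.Lib.Chev.E6Cubic

open Cfsg.Lie (I27)

/-- The coordinate with a given number. -/
def cu (a : ℕ) : I27 := (Fin.ofNat 3 (a / 9), Fin.ofNat 3 (a / 3), Fin.ofNat 3 a)

theorem cu_inj {a b : ℕ} (ha : a < 27) (hb : b < 27) (h : cu a = cu b) : a = b := by
  have key : ∀ a : Fin 27, ∀ b : Fin 27, cu a = cu b → a = b := by decide +kernel
  exact congrArg Fin.val (key ⟨a, ha⟩ ⟨b, hb⟩ h)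

theorem cu_surj (x : I27) : ∃ a < 27, cu a = x := by
  have key : ∀ x : I27, cu (9 * x.1.val + 3 * x.2.1.val + x.2.2.val) = x := by decide +kernel
  exact ⟨_, by omega, key x⟩

variable {F : Type*} [CommRing F]

/-- A coordinate. -/
def cd (w : I27 → F) (a : ℕ) : F := w (cu a)

/-- The unit vector of a coordinate. -/
def ev (a : ℕ) : I27 → F := Pi.single (cu a) 1

theorem cd_ev {a b : ℕ} (ha : a < 27) (hb : b < 27) : cd (ev a : I27 → F) b = if b = a then 1 else 0 := by
  rw [cd, ev, Pi.single_apply]
  by_cases h : b = a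
  · rw [h, if_pos rfl, if_pos rfl]
  · rw [if_neg h, if_neg fun e => h (cu_inj hb ha e)]

theorem cd_add (w y : I27 → F) (a : ℕ) : cd (w + y) a = cd w a + cd y a := rfl

theorem cd_smul (c : F) (w : I27 → F) (a : ℕ) : cd (c • w) a = c * cd w a := rfl

theorem cd_zero (a : ℕ) : cd (0 : I27 → F) a = 0 := rfl

theorem vec_ext {w y : I27 → F} (h : ∀ a < 27, cd w a = cd y a) : w = y := by
  funext x
  obtain ⟨a, ha, rfl⟩ := cu_surj x
  exact h a ha

/-- The value of a monomial. -/
def mval (m : Mon) (u w x : I27 → F) : F := (m.2.2.2 : F) * cd u m.1 * cd w m.2.1 * cd x m.2.2.1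

/-- The sum of the values of a list of monomials. -/
def msum (L : List Mon) (u w x : I27 → F) : F := (L.map fun m => mval m u w x).sum

/-- The three ways of distinguishing one factor. -/
noncomputable def dmons : List Mon :=
  @List.rec Mon (fun _ => List Mon) []
    (fun m _ ih => (m.2.1, m.2.2.1, m.1, m.2.2.2) :: (m.1, m.2.2.1, m.2.1, m.2.2.2) ::
      (m.1, m.2.1, m.2.2.1, m.2.2.2) :: ih) mons

/-- The six orderings. -/
noncomputable def six : List Mon :=
  @List.rec Mon (fun _ => List Mon) []
    (fun m _ ih => m :: (m.2.1, m.1, m.2.2.1, m.2.2.2) :: ih) dmons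

/-- The polar form linear in the second argument. -/
noncomputable def formA (w x : I27 → F) : F := msum dmons w w x

/-- The trilinear form. -/
noncomputable def formC (u w x : I27 → F) : F := msum six u w x

theorem cubic_eq (w : I27 → F) : Cfsg.Lie.cubicT w = msum mons w w w := by
  simp only [msum, mons, List.map, List.sum_cons, List.sum_nil, mval, cd, cu, Cfsg.Lie.cubicT, Cfsg.Lie.mat3,
    Matrix.det_fin_three, Matrix.trace, Matrix.diag, Matrix.mul_apply, Fin.sum_univ_three, Matrix.of_apply,
    Fin.ofNat, Nat.reduceDiv, Nat.reduceMod]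
  push_cast
  ring

theorem msum_poly (w x : I27 → F) (c : F) :
    msum mons (w + c • x) (w + c • x) (w + c • x) =
      msum mons w w w + c * formA w x + c ^ 2 * formA x w + c ^ 3 * msum mons x x x := by
  suffices key : ∀ L : List Mon, msum L (w + c • x) (w + c • x) (w + c • x) =
      msum L w w w + c * msum (@List.rec Mon (fun _ => List Mon) [] (fun m _ ih => (m.2.1, m.2.2.1, m.1, m.2.2.2) ::
          (m.1, m.2.2.1, m.2.1, m.2.2.2) :: (m.1, m.2.1, m.2.2.1, m.2.2.2) :: ih) L) w w x +
        c ^ 2 * msum (@List.rec Mon (fun _ => List Mon) [] (fun m _ ih => (m.2.1, m.2.2.1, m.1, m.2.2.2) ::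
          (m.1, m.2.2.1, m.2.1, m.2.2.2) :: (m.1, m.2.1, m.2.2.1, m.2.2.2) :: ih) L) x x w +
        c ^ 3 * msum L x x x from key mons
  intro L
  induction L with
  | nil => simp [msum]
  | cons m L ih =>
    simp only [msum, List.map_cons, List.sum_cons] at ih ⊢
    rw [ih]
    simp only [mval, cd_add, cd_smul]
    ring

theorem formA_add (w y x : I27 → F) : formA (w + y) x = formA w x + formA y x + formC w y x := by
  unfold formA formC six
  generalize dmons = L
  induction L with
  | nil => simp [msum]
  | cons m L ih =>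
    simp only [msum, List.map_cons, List.sum_cons] at ih ⊢
    rw [ih]
    simp only [mval, cd_add]
    ring

theorem msum_nil (u w x : I27 → F) : msum [] u w x = 0 := rfl

theorem msum_eq_zero {L : List Mon} {u w x : I27 → F} (h : ∀ m ∈ L, mval m u w x = 0) : msum L u w x = 0 := by
  refine List.sum_eq_zero fun z hz => ?_
  obtain ⟨m, hm, rfl⟩ := List.mem_map.1 hz
  exact h m hm

theorem msum_filter (L : List Mon) (p : Mon → Bool) (u w x : I27 → F) (h : ∀ m ∈ L, p m = false → mval m u w x = 0) :
    msum L u w x = msum (L.filter p) u w x := by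
  induction L with
  | nil => rfl
  | cons m L ih =>
    have ih := ih fun a ha => h a (List.mem_cons_of_mem _ ha)
    simp only [msum] at ih ⊢
    cases hp : p m with
    | true => simp [List.filter_cons, hp, ih]
    | false => simp [List.filter_cons, hp, ih, h m List.mem_cons_self hp]

/-! ### Invariance -/

section Field

variable {K : Type*} [Field K]

/-- An element of the stabiliser, acting on vectors. -/
theorem formA_inv {g : GL I27 K} (hg : g ∈ Cfsg.Lie.E6univ K) (hK : ∃ c : K, c ≠ 0 ∧ c ≠ 1) (w x : I27 → K) :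
    formA (g.val.mulVec w) (g.val.mulVec x) = formA w x := by
  obtain ⟨c, hc, hc1⟩ := hK
  have hT : ∀ v : I27 → K, msum mons (g.val.mulVec v) (g.val.mulVec v) (g.val.mulVec v) = msum mons v v v := fun v => by
    rw [← cubic_eq, ← cubic_eq]; exact hg v
  have key : ∀ d : K, d * formA (g.val.mulVec w) (g.val.mulVec x) + d ^ 2 * formA (g.val.mulVec x) (g.val.mulVec w) =
      d * formA w x + d ^ 2 * formA x w := fun d => by
    have h := hT (w + d • x)
    rw [Matrix.mulVec_add, Matrix.mulVec_smul, msum_poly, msum_poly, hT w, hT x] at h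
    linear_combination h
  have h1 := key 1
  have h2 := key c
  have : (c ^ 2 - c) * (formA (g.val.mulVec w) (g.val.mulVec x) - formA w x) = 0 := by
    linear_combination c ^ 2 * h1 - h2
  have hne : c ^ 2 - c ≠ 0 := fun e => by
    have : c * (c - 1) = 0 := by linear_combination e
    rcases mul_eq_zero.1 this with e | e
    · exact hc e
    · exact hc1 (sub_eq_zero.1 e)
  exact sub_eq_zero.1 ((mul_eq_zero.1 this).resolve_left hne)

theorem formC_inv {g : GL I27 K} (hg : g ∈ Cfsg.Lie.E6univ K) (hK : ∃ c : K, c ≠ 0 ∧ c ≠ 1) (u w x : I27 → K) :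
    formC (g.val.mulVec u) (g.val.mulVec w) (g.val.mulVec x) = formC u w x := by
  have h := formA_inv hg hK (u + w) x
  rw [Matrix.mulVec_add, formA_add, formA_add, formA_inv hg hK u x, formA_inv hg hK w x] at h
  exact add_left_cancel h

end Field

end Cfsg.Lib.Chev.E6Cubic
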