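import Cfsg.Agent.Chev.E6Cubic.Poly
import Cfsg.Agent.Chev.Univ.Cert
import Cfsg.Agent.Chev.St.Present
import Cfsg.Agent.Chev.St.DataOk
import Cfsg.Prelude.Def_SteinbergCover
import Cfsg.Prelude.Def_ChevE6
import Mathlib.Data.Matrix.Basis

/-! Root elements of type E6 in the stabiliser of the cubic form. -/

set_option autoImplicit false
set_option Elab.async false
set_option maxHeartbeats 0
set_option maxRecDepth 20000

open Matrix
open Cfsg.Lie (I27)

namespace Cfsg.Lib.Chev.E6Cubic

/-- The entries of a root. -/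
def ent (r : ℕ) : List Ent := ents.getD r []

/-- The entries into a coordinate. -/
def into (r b : ℕ) : List Ent := (ent r).filter fun e => Nat.beq e.2.1 b

/-- The entries of a composite: first `N`, then `M`. -/
def mulE (M N : List Ent) : List Ent :=
  N.flatMap fun e => (M.filter fun f => Nat.beq f.1 e.2.1).map fun f => (e.1, f.2.1, e.2.2 * f.2.2)

/-- Scaled entries. -/
def scE (c : ℤ) (N : List Ent) : List Ent := N.map fun e => (e.1, e.2.1, c * e.2.2)

/-- The total at a position. -/
def totE (a b : ℕ) (L : List Ent) : ℤ :=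
  ((L.filter fun e => Nat.beq e.1 a && Nat.beq e.2.1 b).map fun e => e.2.2).sum

/-- All totals vanish. -/
noncomputable def zeroE (L : List Ent) : Bool := kall (fun e => decide (totE e.1 e.2.1 L = 0)) L

/-- The commutator condition of two roots. -/
noncomputable def okPair (r s : ℕ) : Bool :=
  zeroE (mulE (ent r) (mulE (ent s) (ent r))) && zeroE (mulE (ent s) (mulE (ent r) (ent s))) &&
    match Cfsg.Lie.chevE6.commTerms r s with
    | [] => zeroE (mulE (ent s) (ent r) ++ scE (-1) (mulE (ent r) (ent s)))
    | [q] => Nat.beq q.2.2.1 1 && Nat.beq q.2.2.2 1 &&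
        zeroE (mulE (ent s) (ent r) ++ scE (-1) (mulE (ent r) (ent s)) ++ scE q.2.1 (ent q.1))
    | _ => false

/-- A coordinate is a target of the root. -/
def isT (r a : ℕ) : Bool := !(into r a).isEmpty

/-- Sort three coordinates. -/
def sort3 (m : Mon) : Mon :=
  Bool.rec
    (Bool.rec
      (Bool.rec (m.2.2.1, m.2.1, m.1, m.2.2.2) (m.2.1, m.2.2.1, m.1, m.2.2.2) (Nat.ble m.2.1 m.2.2.1))
      (m.2.1, m.1, m.2.2.1, m.2.2.2) (Nat.ble m.1 m.2.2.1))
    (Bool.rec
      (Bool.rec (m.2.2.1, m.1, m.2.1, m.2.2.2) (m.1, m.2.2.1, m.2.1, m.2.2.2) (Nat.ble m.1 m.2.2.1))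
      (m.1, m.2.1, m.2.2.1, m.2.2.2) (Nat.ble m.2.1 m.2.2.1))
    (Nat.ble m.1 m.2.1)

/-- The first order variation of the cubic form along a root. -/
noncomputable def varL (r : ℕ) : List Mon :=
  dmons.flatMap fun m => (into r m.2.2.1).map fun e => sort3 (m.1, m.2.1, e.1, m.2.2.2 * e.2.2)

/-- The total of a monomial. -/
def totM (a b c : ℕ) (L : List Mon) : ℤ :=
  ((L.filter fun m => Nat.beq m.1 a && Nat.beq m.2.1 b && Nat.beq m.2.2.1 c).map fun m => m.2.2.2).sum

/-- The cubic form is invariant along a root. -/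
noncomputable def okInv (r : ℕ) : Bool :=
  kall (fun m => !(isT r m.1 && isT r m.2.1)) dmons &&
    kall (fun m => decide (totM m.1 m.2.1 m.2.2.1 (varL r) = 0)) (varL r)

theorem okEnt_all : kall (fun r => kall (fun e => Nat.blt e.1 27 && Nat.blt e.2.1 27) (ent r)) (krange 0 72) = true := by
  decide +kernel

theorem okSq_all : kall (fun r => zeroE (mulE (ent r) (ent r))) (krange 0 72) = true := by decide +kernel

theorem okInv_all : kall okInv (krange 0 72) = true := by decide +kernel

theorem okPair_all : kall (fun r => kall (fun s => Nat.beq s r || Nat.beq s (Univ.rev Cfsg.Lie.chevE6 r) || okPair r s)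
    (krange 0 72)) (krange 0 72) = true := by decide +kernel

theorem okRev_all : kall (fun r => Nat.beq (Cfsg.Lie.chevE6.neg r) (Univ.rev Cfsg.Lie.chevE6 r)) (krange 0 72) = true := by
  decide +kernel

/-- Entries in range. -/
def Good (L : List Ent) : Prop := ∀ e ∈ L, e.1 < 27 ∧ e.2.1 < 27

theorem ent_good (r : ℕ) : Good (ent r) := by
  intro e he
  by_cases hr : r < 72
  · have := (kall_iff _ _).1 (kall_krange okEnt_all r hr) e he
    simpa using this
  · have hl : ents.length = 72 := rfl
    rw [ent, List.getD_eq_default _ _ (by omega)] at he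
    simp at he

theorem mulE_good {M N : List Ent} (hM : Good M) (hN : Good N) : Good (mulE M N) := by
  intro e he
  simp only [mulE, List.mem_flatMap, List.mem_map, List.mem_filter] at he
  obtain ⟨x, hx, y, ⟨hy, -⟩, rfl⟩ := he
  exact ⟨(hN x hx).1, (hM y hy).2⟩

theorem scE_good {c : ℤ} {N : List Ent} (hN : Good N) : Good (scE c N) := by
  intro e he
  obtain ⟨x, hx, rfl⟩ := List.mem_map.1 he
  exact hN x hx

theorem good_append {M N : List Ent} (hM : Good M) (hN : Good N) : Good (M ++ N) := fun e he =>
  (List.mem_append.1 he).elim (hM e) (hN e)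

variable {F : Type*} [Field F]

/-- The matrix of a list of entries. -/
noncomputable def toMat (L : List Ent) : Matrix I27 I27 F :=
  (L.map fun e => Matrix.single (cu e.2.1) (cu e.1) (e.2.2 : F)).sum

theorem toMat_cons (e : Ent) (L : List Ent) :
    toMat (F := F) (e :: L) = Matrix.single (cu e.2.1) (cu e.1) (e.2.2 : F) + toMat L := rfl

theorem toMat_append (M N : List Ent) : toMat (F := F) (M ++ N) = toMat M + toMat N := by
  simp [toMat, List.map_append, List.sum_append]

theorem toMat_scE (c : ℤ) (N : List Ent) : toMat (F := F) (scE c N) = (c : F) • toMat N := by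
  induction N with
  | nil => simp [scE, toMat]
  | cons e L ih =>
    rw [toMat_cons, smul_add, ← ih, Matrix.smul_single]
    show toMat ((e.1, e.2.1, c * e.2.2) :: scE c L) = _
    rw [toMat_cons]
    simp

theorem toMat_apply {L : List Ent} (hL : Good L) {a b : ℕ} (ha : a < 27) (hb : b < 27) :
    toMat (F := F) L (cu b) (cu a) = (totE a b L : F) := by
  induction L with
  | nil => simp [toMat, totE]
  | cons e L ih =>
    obtain ⟨h1, h2⟩ := hL e List.mem_cons_self
    rw [toMat_cons, Matrix.add_apply, ih fun x hx => hL x (List.mem_cons_of_mem _ hx), totE, totE, List.filter_cons]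
    by_cases h : e.1 = a ∧ e.2.1 = b
    · obtain ⟨rfl, rfl⟩ := h
      rw [Matrix.single_apply_same]
      simp
    · have : (Nat.beq e.1 a && Nat.beq e.2.1 b) = false := by
        rw [Bool.eq_false_iff]
        intro h'
        simp only [Bool.and_eq_true] at h'
        exact h ⟨Nat.eq_of_beq_eq_true h'.1, Nat.eq_of_beq_eq_true h'.2⟩
      rw [this, Matrix.single_apply, if_neg (fun ⟨e1, e2⟩ => h ⟨cu_inj h1 ha e2, cu_inj h2 hb e1⟩)]
      simp

theorem toMat_zero {L : List Ent} (hL : Good L) (h : zeroE L = true) : toMat (F := F) L = 0 := by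
  ext x y
  obtain ⟨b, hb, rfl⟩ := cu_surj x
  obtain ⟨a, ha, rfl⟩ := cu_surj y
  rw [toMat_apply hL ha hb, Matrix.zero_apply]
  by_cases hf : ∃ e ∈ L, e.1 = a ∧ e.2.1 = b
  · obtain ⟨e, he, rfl, rfl⟩ := hf
    rw [zeroE, kall_iff] at h
    simp [of_decide_eq_true (h e he)]
  · rw [totE, List.filter_eq_nil_iff.2 fun e he h' => hf ⟨e, he, by
      simp only [Bool.and_eq_true] at h'
      exact ⟨Nat.eq_of_beq_eq_true h'.1, Nat.eq_of_beq_eq_true h'.2⟩⟩]
    simp

theorem toMat_mulE {M N : List Ent} (hM : Good M) (hN : Good N) :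
    toMat (F := F) (mulE M N) = toMat M * toMat N := by
  induction N with
  | nil => simp [mulE, toMat]
  | cons e N ih =>
    obtain ⟨h1, h2⟩ := hN e List.mem_cons_self
    rw [show mulE M (e :: N) = ((M.filter fun f => Nat.beq f.1 e.2.1).map fun f => (e.1, f.2.1, e.2.2 * f.2.2)) ++
      mulE M N from rfl, toMat_append, ih fun x hx => hN x (List.mem_cons_of_mem _ hx), toMat_cons, mul_add]
    congr 1
    clear ih hN
    induction M with
    | nil => simp [toMat]
    | cons f M ih =>
      obtain ⟨g1, -⟩ := hM f List.mem_cons_self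
      rw [toMat_cons f M, add_mul, ← ih fun x hx => hM x (List.mem_cons_of_mem _ hx), List.filter_cons]
      by_cases h : f.1 = e.2.1
      · rw [if_pos (by rw [h]; exact Nat.beq_refl _), List.map_cons, toMat_cons, h, Matrix.single_mul_single_same]
        congr 2
        push_cast
        ring
      · rw [if_neg (fun h' => h (Nat.eq_of_beq_eq_true h')),
          Matrix.single_mul_single_of_ne _ _ _ _ (fun e' => h (cu_inj g1 h2 e')), zero_add]

/-- A root element as a matrix. -/
noncomputable def xm (r : ℕ) (t : F) : Matrix I27 I27 F := 1 + t • toMat (ent r)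

theorem sq_zero {r : ℕ} (hr : r < 72) : toMat (F := F) (ent r) * toMat (ent r) = 0 := by
  rw [← toMat_mulE (ent_good r) (ent_good r)]
  exact toMat_zero (mulE_good (ent_good r) (ent_good r)) (kall_krange okSq_all r hr)

theorem xm_mul {r : ℕ} (hr : r < 72) (t u : F) : xm r t * xm r u = xm r (t + u) := by
  simp only [xm, mul_add, add_mul, one_mul, mul_one, smul_mul_smul_comm, sq_zero hr, smul_zero, add_zero, add_smul]
  abel

theorem xm_zero (r : ℕ) : xm r (0 : F) = 1 := by simp [xm]

/-- A root element. -/
noncomputable def xg (r : ℕ) (t : F) : GL I27 F :=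
  if hr : r < 72 then ⟨xm r t, xm r (-t), by rw [xm_mul hr, add_neg_cancel, xm_zero],
    by rw [xm_mul hr, neg_add_cancel, xm_zero]⟩
  else 1

theorem xg_val {r : ℕ} (hr : r < 72) (t : F) : (xg r t).val = xm r t := by rw [xg, dif_pos hr]

theorem app_toMat {L : List Ent} (hL : Good L) (w : I27 → F) {b : ℕ} (hb : b < 27) :
    cd (toMat L *ᵥ w) b = ((L.filter fun e => Nat.beq e.2.1 b).map fun e => (e.2.2 : F) * cd w e.1).sum := by
  induction L with
  | nil => simp [toMat, cd]
  | cons e L ih =>
    obtain ⟨-, h2⟩ := hL e List.mem_cons_self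
    rw [toMat_cons, Matrix.add_mulVec, cd_add, ih fun x hx => hL x (List.mem_cons_of_mem _ hx), List.filter_cons]
    by_cases h : e.2.1 = b
    · subst h
      rw [if_pos (Nat.beq_refl _), List.map_cons, List.sum_cons]
      congr 1
      simp [cd, Matrix.single_mulVec]
    · rw [if_neg (fun h' => h (Nat.eq_of_beq_eq_true h')), show cd (Matrix.single (cu e.2.1) (cu e.1) (e.2.2 : F) *ᵥ w) b
        = 0 from by
          simp only [cd, Matrix.single_mulVec]
          exact Pi.single_eq_of_ne (fun e' => h (cu_inj h2 hb e'.symm)) _, zero_add]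

/-- The value of the nilpotent operator at a coordinate. -/
noncomputable def app (r : ℕ) (w : I27 → F) (b : ℕ) : F :=
  ((into r b).map fun e => (e.2.2 : F) * cd w e.1).sum

theorem cd_xg {r : ℕ} (hr : r < 72) (t : F) (w : I27 → F) {b : ℕ} (hb : b < 27) :
    cd ((xg r t).val *ᵥ w) b = cd w b + t * app r w b := by
  rw [xg_val hr, xm, Matrix.add_mulVec, Matrix.one_mulVec, cd_add, Matrix.smul_mulVec, cd_smul,
    app_toMat (ent_good r) w hb]
  rfl

theorem mval_sort3 (m : Mon) (w : I27 → F) : mval (sort3 m) w w w = mval m w w w := by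
  unfold sort3
  cases Nat.ble m.1 m.2.1 <;> cases Nat.ble m.1 m.2.2.1 <;> cases Nat.ble m.2.1 m.2.2.1 <;>
    simp only [mval] <;> ring

theorem msum_zero_of_tot (w : I27 → F) : ∀ (n : ℕ) (L : List Mon), L.length ≤ n →
    (∀ m ∈ L, totM m.1 m.2.1 m.2.2.1 L = 0) → msum L w w w = 0 := by
  intro n
  induction n with
  | zero =>
    intro L hL _
    rw [List.length_eq_zero_iff.1 (Nat.le_zero.1 hL)]
    rfl
  | succ n ih =>
    intro L hL h
    cases hLeq : L with
    | nil => rfl
    | cons m0 L0 =>
      rw [← hLeq]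
      set p : Mon → Bool := fun m => Nat.beq m.1 m0.1 && Nat.beq m.2.1 m0.2.1 && Nat.beq m.2.2.1 m0.2.2.1 with hp
      have hsplit : msum L w w w = msum (L.filter p) w w w + msum (L.filter fun m => !p m) w w w := by
        clear ih hL h hLeq
        induction L with
        | nil => simp [msum]
        | cons m L ih =>
          simp only [msum, List.map_cons, List.sum_cons] at ih ⊢
          cases hpm : p m <;> simp [List.filter_cons, hpm, ih] <;> ring
      have h1 : msum (L.filter p) w w w =
          (totM m0.1 m0.2.1 m0.2.2.1 L : F) * cd w m0.1 * cd w m0.2.1 * cd w m0.2.2.1 := by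
        rw [totM, ← hp]
        have hall : ∀ m ∈ L.filter p, m.1 = m0.1 ∧ m.2.1 = m0.2.1 ∧ m.2.2.1 = m0.2.2.1 := fun m hm => by
          have := (List.mem_filter.1 hm).2
          simp only [hp, Bool.and_eq_true] at this
          exact ⟨Nat.eq_of_beq_eq_true this.1.1, Nat.eq_of_beq_eq_true this.1.2, Nat.eq_of_beq_eq_true this.2⟩
        generalize L.filter p = M at hall
        induction M with
        | nil => simp [msum]
        | cons m M ihM =>
          obtain ⟨e1, e2, e3⟩ := hall m List.mem_cons_self
          have := ihM fun x hx => hall x (List.mem_cons_of_mem _ hx)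
          simp only [msum, List.map_cons, List.sum_cons] at this ⊢
          rw [this, mval, e1, e2, e3]
          push_cast
          ring
      have hm0 : m0 ∈ L := by rw [hLeq]; exact List.mem_cons_self
      rw [hsplit, h1, h m0 hm0, ih]
      · simp
      · have : (L.filter fun m => !p m).length < L.length := by
          rw [List.length_filter_lt_length_iff_exists]
          refine ⟨m0, hm0, ?_⟩
          simp [hp]
        omega
      · intro m hm
        obtain ⟨hmL, hpm⟩ := List.mem_filter.1 hm
        rw [totM, List.filter_filter, ← h m hmL, totM]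
        congr 2
        refine List.filter_congr fun x _ => ?_
        by_cases hx : (Nat.beq x.1 m.1 && Nat.beq x.2.1 m.2.1 && Nat.beq x.2.2.1 m.2.2.1) = true
        · have hx' := hx
          simp only [Bool.and_eq_true] at hx'
          simp only [hp] at hpm ⊢
          rw [Nat.eq_of_beq_eq_true hx'.1.1, Nat.eq_of_beq_eq_true hx'.1.2, Nat.eq_of_beq_eq_true hx'.2]
          simp [hpm]
        · simp [hx]

theorem xg_mem {r : ℕ} (t : F) : xg r t ∈ Cfsg.Lie.E6univ F := by
  by_cases hr : r < 72
  swap
  · rw [xg, dif_neg hr]; exact one_mem _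
  intro w
  show Cfsg.Lie.cubicT ((xg r t).val *ᵥ w) = _
  rw [cubic_eq, cubic_eq, xg_val hr, xm, Matrix.add_mulVec, Matrix.one_mulVec, Matrix.smul_mulVec, msum_poly]
  have hT := kall_krange okInv_all r hr
  simp only [okInv, Bool.and_eq_true, kall_iff] at hT
  obtain ⟨hdis, hvar⟩ := hT
  set y := toMat (ent r) *ᵥ w with hy
  have happ : ∀ {a : ℕ}, a < 27 → cd y a = app r w a := fun ha => app_toMat (ent_good r) w ha
  have hlt : ∀ m ∈ dmons, m.1 < 27 ∧ m.2.1 < 27 ∧ m.2.2.1 < 27 := by
    have : kall (fun m => Nat.blt m.1 27 && Nat.blt m.2.1 27 && Nat.blt m.2.2.1 27) dmons = true := by decide +kernel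
    intro m hm
    have := (kall_iff _ _).1 this m hm
    simpa [and_assoc] using this
  have hz : ∀ m ∈ dmons, cd y m.1 * cd y m.2.1 = 0 := fun m hm => by
    have := hdis m hm
    simp only [Bool.not_eq_true', Bool.and_eq_false_iff, isT, Bool.not_eq_false', List.isEmpty_iff] at this
    rcases this with e | e
    · rw [happ (hlt m hm).1, app, e]; simp
    · rw [happ (hlt m hm).2.1, app, e]; simp
  have h2 : formA y w = 0 := msum_eq_zero fun m hm => by
    rw [mval, mul_assoc (m.2.2.2 : F), hz m hm, mul_zero, zero_mul]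
  have h3 : msum mons y y y = 0 := by
    have key : ∀ (L : List Mon), (∀ m ∈ L, cd y m.1 * cd y m.2.1 = 0) → msum L y y y = 0 := fun L hL =>
      msum_eq_zero fun m hm => by rw [mval, mul_assoc (m.2.2.2 : F), hL m hm, mul_zero, zero_mul]
    have hsub : kall (fun m => kex (fun d => Nat.beq d.1 m.1 && Nat.beq d.2.1 m.2.1) dmons) mons = true := by
      decide +kernel
    refine key mons fun m hm => ?_
    obtain ⟨d, hd, hde⟩ := (kex_iff _ _).1 ((kall_iff _ _).1 hsub m hm)
    simp only [Bool.and_eq_true] at hde
    rw [← Nat.eq_of_beq_eq_true hde.1, ← Nat.eq_of_beq_eq_true hde.2]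
    exact hz d hd
  have h1 : formA w y = 0 := by
    have : formA w y = msum (varL r) w w w := by
      rw [formA, varL]
      have hlt' := hlt
      generalize dmons = L at hlt'
      induction L with
      | nil => simp [msum]
      | cons m L ih =>
        have ih := ih fun x hx => hlt' x (List.mem_cons_of_mem _ hx)
        simp only [msum, List.map_cons, List.sum_cons, List.flatMap_cons, List.map_append, List.sum_append] at ih ⊢
        rw [ih]
        congr 1
        simp only [mval, happ (hlt' m List.mem_cons_self).2.2, app, List.map_map]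
        induction into r m.2.2.1 with
        | nil => simp
        | cons e M ihM =>
          simp only [List.map_cons, List.sum_cons, Function.comp_apply, mul_add, ihM]
          congr 1
          show _ = mval _ w w w
          rw [mval_sort3, mval]
          push_cast
          ring
    rw [this]
    exact msum_zero_of_tot w _ _ le_rfl fun m hm => of_decide_eq_true (hvar m hm)
  rw [h1, h2, h3]
  ring

theorem xg_mul {r : ℕ} (hr : r < 72) (t u : F) : xg r t * xg r u = xg r (t + u) :=
  Units.ext (by rw [Units.val_mul, xg_val hr, xg_val hr, xg_val hr, xm_mul hr])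

theorem xg_inv {r : ℕ} (hr : r < 72) (t : F) : (xg r t)⁻¹ = xg r (-t) := by
  rw [inv_eq_iff_mul_eq_one, xg_mul hr, add_neg_cancel]
  exact Units.ext (by rw [xg_val hr, xm_zero]; rfl)

theorem comm_matrix {M N Q : Matrix I27 I27 F} {c : F} (hN : N * N = 0) (hM : M * M = 0) (hNMN : N * M * N = 0)
    (hMNM : M * N * M = 0) (hC : M * N - N * M = -c • Q) (t u : F) :
    (1 + -u • M) * (1 + -t • N) * (1 + u • M) * (1 + t • N) = 1 + (c * -t * u) • Q := by
  have e1 : (1 + -t • N) * (1 + u • M) * (1 + t • N) = 1 + u • M + (t * u) • (M * N - N * M) := by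
    simp only [mul_add, add_mul, one_mul, mul_one, smul_mul_assoc, mul_smul_comm, smul_smul, hN, hNMN, smul_zero,
      add_zero, zero_add, smul_sub]
    module
  rw [mul_assoc (1 + -u • M), mul_assoc (1 + -u • M), e1]
  have e2 : (1 + -u • M) * (1 + u • M + (t * u) • (M * N - N * M)) =
      1 + (t * u) • (M * N - N * M) := by
    simp only [mul_add, add_mul, one_mul, mul_one, smul_mul_assoc, mul_smul_comm, smul_smul, hM, smul_zero,
      add_zero, mul_sub, ← mul_assoc, hMNM, zero_mul, sub_zero, smul_sub]
    module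
  rw [e2, hC, smul_smul]
  congr 2
  ring

theorem xg_comm {r s : ℕ} (hr : r < 72) (hs : s < 72) (h1 : s ≠ r) (h2 : s ≠ Cfsg.Lie.chevE6.neg r) (t u : F) :
    (xg s u)⁻¹ * (xg r t)⁻¹ * xg s u * xg r t =
      ((Cfsg.Lie.chevE6.commWord F r s t u).map fun p => xg p.1 p.2).prod := by
  have h := kall_krange (kall_krange okPair_all r hr) s hs
  have e1 : Nat.beq s r = false := Bool.eq_false_iff.2 fun e => h1 (Nat.eq_of_beq_eq_true e)
  have e2 : Nat.beq s (Univ.rev Cfsg.Lie.chevE6 r) = false := Bool.eq_false_iff.2 fun e => h2 (by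
    rw [Nat.eq_of_beq_eq_true (kall_krange okRev_all r hr)]; exact Nat.eq_of_beq_eq_true e)
  rw [e1, e2, Bool.false_or, Bool.false_or] at h
  simp only [okPair, Bool.and_eq_true] at h
  obtain ⟨⟨hNMN, hMNM⟩, h⟩ := h
  have gr := ent_good r
  have gs := ent_good s
  have hNMN' : toMat (F := F) (ent r) * toMat (ent s) * toMat (ent r) = 0 := by
    rw [mul_assoc, ← toMat_mulE gs gr, ← toMat_mulE gr (mulE_good gs gr)]
    exact toMat_zero (mulE_good gr (mulE_good gs gr)) hNMN
  have hMNM' : toMat (F := F) (ent s) * toMat (ent r) * toMat (ent s) = 0 := by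
    rw [mul_assoc, ← toMat_mulE gr gs, ← toMat_mulE gs (mulE_good gr gs)]
    exact toMat_zero (mulE_good gs (mulE_good gr gs)) hMNM
  have hneg : ((-1 : ℤ) : F) = -1 := by norm_num
  refine Units.ext ?_
  rw [Units.val_mul, Units.val_mul, Units.val_mul, xg_inv hs, xg_inv hr, xg_val hs, xg_val hr, xg_val hs, xg_val hr,
    Cfsg.Lie.ChevalleyDatum.commWord]
  split at h
  · rename_i he
    rw [he]
    have hC : toMat (F := F) (ent s) * toMat (ent r) - toMat (ent r) * toMat (ent s) = -(0 : F) • toMat (ent r) := by
      have := toMat_zero (F := F) (good_append (mulE_good gs gr) (scE_good (mulE_good gr gs))) h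
      rw [toMat_append, toMat_scE, toMat_mulE gs gr, toMat_mulE gr gs, hneg] at this
      rw [neg_zero, zero_smul, ← this]
      module
    simp only [List.map_nil, List.prod_nil, Units.val_one]
    rw [show xm s (-u) * xm r (-t) * xm s u * xm r t = 1 + ((0 : F) * -t * u) • toMat (ent r) from
      comm_matrix (sq_zero hr) (sq_zero hs) hNMN' hMNM' hC t u]
    simp
  · rename_i q he
    simp only [Bool.and_eq_true] at h
    obtain ⟨⟨h11, h12⟩, hz⟩ := h
    have hq : q.1 < 72 := Ok.commTerms_lt E6.okChain_ hr hs (by rw [he]; exact List.mem_singleton_self q)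
    have hC : toMat (F := F) (ent s) * toMat (ent r) - toMat (ent r) * toMat (ent s) =
        -(q.2.1 : F) • toMat (ent q.1) := by
      have := toMat_zero (F := F)
        (good_append (good_append (mulE_good gs gr) (scE_good (mulE_good gr gs))) (scE_good (ent_good q.1))) hz
      rw [toMat_append, toMat_append, toMat_scE, toMat_scE, toMat_mulE gs gr, toMat_mulE gr gs, hneg] at this
      rw [eq_comm, ← sub_eq_zero, ← neg_eq_zero, ← this]
      module
    rw [he, List.map_singleton, List.map_singleton, List.prod_singleton, xg_val hq, Nat.eq_of_beq_eq_true h11,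
      Nat.eq_of_beq_eq_true h12, pow_one, pow_one]
    exact comm_matrix (sq_zero hr) (sq_zero hs) hNMN' hMNM' hC t u
  · exact absurd h Bool.false_ne_true

end Cfsg.Lib.Chev.E6Cubic
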