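import Cfsg.Agent.Chev.E6Cubic.Elim

/-! The stabiliser of the cubic form is generated by root elements. -/

set_option autoImplicit false
set_option Elab.async false
set_option maxHeartbeats 1000000
set_option maxRecDepth 20000

open Matrix
open Cfsg.Lie (I27)

namespace Cfsg.Lib.Chev.E6Cubic

/-- The entries out of a coordinate. -/
def outOf (r a : ℕ) : List Ent := (ent r).filter fun e => Nat.beq e.1 a

/-- The checks for the torus of a root. -/
noncomputable def okH (r : ℕ) : Bool :=
  kall (fun e => (match outOf r e.1 with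
      | [f] => Nat.beq f.2.1 e.2.1 && decide (f.2.2 = e.2.2)
      | _ => false) && noSrc [e.2.1] r &&
    (match outOf (Nat.sub 71 r) e.2.1 with
      | [f] => Nat.beq f.2.1 e.1 && decide (f.2.2 = e.2.2)
      | _ => false) && noSrc [e.1] (Nat.sub 71 r) && Nat.beq e.2.2.natAbs 1) (ent r) &&
  kall (fun a => !((outOf r a).isEmpty && (into r a).isEmpty) || (noSrc [a] r && noSrc [a] (Nat.sub 71 r)))
    (krange 0 27)

/-- The exponent of the torus of a root at a coordinate. -/
def ex (r a : ℕ) : ℤ := bif !(into r a).isEmpty then 1 else bif !(outOf r a).isEmpty then -1 else 0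

/-- The fundamental roots. -/
def simples : List ℕ := [56, 46, 42, 39, 37, 36]

/-- The exponent of a product. -/
noncomputable def dot (L : List (ℕ × ℤ)) (a : ℕ) : ℤ :=
  @List.rec (ℕ × ℤ) (fun _ => ℤ) 0 (fun p _ ih => p.2 * ex p.1 a + ih) L

theorem okH_all : kall okH simples = true := by decide +kernel

theorem okDot_all : kall (fun p => decide (dot (simples.zip p.2) p.1 = 1) && Nat.blt p.1 27 &&
    kall (fun q => Nat.beq q.1 p.1 || decide (dot (simples.zip p.2) q.1 = 0)) torusTab) torusTab = true := by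
  decide +kernel

/-- The checks for the propagation. -/
noncomputable def okDiag : List (ℕ × ℕ × ℕ) → List ℕ → Bool :=
  @List.rec (ℕ × ℕ × ℕ) (fun _ => List ℕ → Bool) (fun acc => kall (fun a => mem a acc) (krange 0 27))
    (fun p _ ih acc => mem p.1 acc && mem p.2.1 acc && Nat.blt p.1 27 && Nat.blt p.2.1 27 && Nat.blt p.2.2 27 &&
      single p.1 p.2.1 p.2.2 six && ih (p.2.2 :: acc))

theorem okDiag_all : okDiag diagTab (torusTab.map fun p => p.1) = true := by decide +kernel

variable {F : Type*} [Field F]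

theorem xg_out_one {r u b : ℕ} {s : ℤ} (hr : r < 72) (hu : u < 27) (h : outOf r u = [(u, b, s)]) (t : F) :
    (xg r t).val *ᵥ ev u = ev u + (t * (s : F)) • ev b := by
  have hb : b < 27 := by
    have : (u, b, s) ∈ outOf r u := by rw [h]; simp
    exact (ent_good r _ (List.mem_filter.1 this).1).2
  refine vec_ext fun a ha => ?_
  rw [cd_xg hr t _ ha, cd_add, cd_smul, cd_ev hb ha]
  congr 1
  have : app r (ev u : I27 → F) a =
      (((outOf r u).filter fun e => Nat.beq e.2.1 a).map fun e => (e.2.2 : F)).sum := by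
    rw [app, into, outOf]
    have hg := ent_good r
    generalize ent r = L at hg
    induction L with
    | nil => simp
    | cons e L ih =>
      have ih := ih fun x hx => hg x (List.mem_cons_of_mem _ hx)
      have he := (hg e List.mem_cons_self).1
      by_cases h1 : e.1 = u <;> by_cases h2 : e.2.1 = a <;>
        simp [List.filter_cons, h1, h2, cd_ev hu he, cd_ev hu hu, ih]
  rw [this, h]
  by_cases h2 : a = b
  · subst h2; simp
  · have : b ≠ a := fun e => h2 e.symm
    simp [List.filter_cons, h2, this]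

/-- The element exchanging the two ends of a root. -/
noncomputable def ng (r : ℕ) (t : F) : GL I27 F := xg r t * xg (Nat.sub 71 r) (-t⁻¹) * xg r t

/-- The torus element of a root. -/
noncomputable def hg (r : ℕ) (t : F) : GL I27 F := ng r t * ng r (-1)

theorem hg_ev {r : ℕ} (hrs : r ∈ simples) {t : F} (ht : t ≠ 0) {a : ℕ} (ha : a < 27) :
    (hg r t).val *ᵥ ev a = (t ^ ex r a) • ev a := by
  have hr : r < 72 := by
    simp only [simples, List.mem_cons, List.not_mem_nil, or_false] at hrs
    omega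
  have hr' : Nat.sub 71 r < 72 := by show 71 - r < 72; omega
  have h := (kall_iff _ _).1 okH_all r hrs
  simp only [okH, Bool.and_eq_true, kall_iff] at h
  obtain ⟨hpair, hfix⟩ := h
  have pair : ∀ e ∈ ent r, ∀ v : F, v ≠ 0 →
      ((ng r v).val *ᵥ ev e.1 = (v * (e.2.2 : F)) • ev e.2.1 ∧
        (ng r v).val *ᵥ ev e.2.1 = (-v⁻¹ * (e.2.2 : F)) • ev e.1) := by
    intro e he v hv
    obtain ⟨h1, h2⟩ := ent_good r e he
    have hp := hpair e he
    obtain ⟨⟨⟨⟨o1, n1⟩, o2⟩, n2⟩, hun⟩ := hp
    have so : ∀ {q a b : ℕ}, (match outOf q a with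
        | [f] => Nat.beq f.2.1 b && decide (f.2.2 = e.2.2)
        | _ => false) = true → outOf q a = [(a, b, e.2.2)] := fun {q a b} o => by
      split at o
      · rename_i f hf
        have hm : f ∈ outOf q a := by rw [hf]; simp
        have hf1 := Nat.eq_of_beq_eq_true (List.mem_filter.1 hm).2
        simp only [Bool.and_eq_true, decide_eq_true_eq] at o
        rw [hf]
        obtain ⟨f1, f2, f3⟩ := f
        simp only at hf1 o ⊢
        rw [hf1, Nat.eq_of_beq_eq_true o.1, o.2]
      · exact absurd o Bool.false_ne_true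
    have hs2 : (e.2.2 : F) * (e.2.2 : F) = 1 := by
      rcases Int.natAbs_eq e.2.2 with k | k <;> rw [k, Nat.eq_of_beq_eq_true hun] <;> simp
    have a1 := fun t : F => xg_out_one hr h1 (so o1) t
    have a2 := fun t : F => xg_out_one hr' h2 (so o2) t
    have b1 := fun t : F => xg_fix (S := [e.2.1]) hr n1 List.mem_cons_self h2 t
    have b2 := fun t : F => xg_fix (S := [e.1]) hr' n2 List.mem_cons_self h1 t
    refine ⟨?_, ?_⟩
    · rw [ng, val_mul_mulVec, val_mul_mulVec, a1, Matrix.mulVec_add, Matrix.mulVec_smul, b2, a2, smul_add, smul_smul,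
        show v * (e.2.2 : F) * (-v⁻¹ * (e.2.2 : F)) = -1 by field_simp; linear_combination -hs2]
      rw [show ev e.1 + ((v * (e.2.2 : F)) • ev e.2.1 + (-1 : F) • ev e.1) = (v * (e.2.2 : F)) • (ev e.2.1 : I27 → F) by
        module, Matrix.mulVec_smul, b1]
    · rw [ng, val_mul_mulVec, val_mul_mulVec, b1, a2, Matrix.mulVec_add, Matrix.mulVec_smul, b1, a1, smul_add,
        smul_smul, show -v⁻¹ * (e.2.2 : F) * (v * (e.2.2 : F)) = -1 by field_simp; linear_combination -hs2]
      module
  rw [hg, val_mul_mulVec]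
  by_cases hi : (into r a).isEmpty = true
  · by_cases ho : (outOf r a).isEmpty = true
    · have hn := hfix a (by rw [krange_eq, List.mem_range'_1]; omega)
      simp only [hi, ho, Bool.and_self, Bool.not_true, Bool.false_or, Bool.and_eq_true] at hn
      have hng : ∀ v : F, (ng r v).val *ᵥ ev a = ev a := fun v => by
        rw [ng, val_mul_mulVec, val_mul_mulVec, xg_fix (S := [a]) hr hn.1 List.mem_cons_self ha,
          xg_fix (S := [a]) hr' hn.2 List.mem_cons_self ha, xg_fix (S := [a]) hr hn.1 List.mem_cons_self ha]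
      rw [hng, hng]
      simp [ex, hi, ho]
    · obtain ⟨e, he⟩ : ∃ e, e ∈ outOf r a := List.exists_mem_of_ne_nil _ fun h => ho (by rw [h]; rfl)
      obtain ⟨he', hea⟩ := List.mem_filter.1 he
      have := Nat.eq_of_beq_eq_true hea
      subst this
      rw [(pair e he' (-1) (by simp)).1, Matrix.mulVec_smul, (pair e he' t ht).2, smul_smul]
      congr 1
      have hun := hpair e he'
      have hs2 : (e.2.2 : F) * (e.2.2 : F) = 1 := by
        rcases Int.natAbs_eq e.2.2 with k | k <;> rw [k, Nat.eq_of_beq_eq_true hun.2] <;> simp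
      simp only [ex, hi, ho, Bool.not_true, Bool.not_false, cond_false, cond_true, _root_.zpow_neg, zpow_one]
      linear_combination t⁻¹ * hs2
  · obtain ⟨e, he⟩ : ∃ e, e ∈ into r a := List.exists_mem_of_ne_nil _ fun h => hi (by rw [h]; rfl)
    obtain ⟨he', hea⟩ := List.mem_filter.1 he
    have := Nat.eq_of_beq_eq_true hea
    subst this
    rw [(pair e he' (-1) (by simp)).2, Matrix.mulVec_smul, (pair e he' t ht).1, smul_smul]
    congr 1
    have hun := hpair e he'
    have hs2 : (e.2.2 : F) * (e.2.2 : F) = 1 := by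
      rcases Int.natAbs_eq e.2.2 with k | k <;> rw [k, Nat.eq_of_beq_eq_true hun.2] <;> simp
    simp only [ex, hi, Bool.not_false, cond_true, zpow_one, inv_neg, inv_one, neg_neg, one_mul]
    linear_combination t * hs2

theorem hg_mem {r : ℕ} (hr : r < 72) (t : F) : hg r t ∈ rootGp F := by
  have hr' : Nat.sub 71 r < 72 := by show 71 - r < 72; omega
  exact mul_mem (mul_mem (mul_mem (xg_rootGp hr _) (xg_rootGp hr' _)) (xg_rootGp hr _))
    (mul_mem (mul_mem (xg_rootGp hr _) (xg_rootGp hr' _)) (xg_rootGp hr _))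

/-- A product of torus elements. -/
noncomputable def hprod (L : List (ℕ × ℤ)) (t : F) : GL I27 F := (L.map fun p => hg p.1 (t ^ p.2)).prod

theorem hprod_ev {t : F} (ht : t ≠ 0) {a : ℕ} (ha : a < 27) : ∀ L : List (ℕ × ℤ), (∀ p ∈ L, p.1 ∈ simples) →
    (hprod L t).val *ᵥ ev a = (t ^ dot L a) • ev a := by
  intro L
  induction L with
  | nil => intro _; simp [hprod, dot]
  | cons p L ih =>
    intro hL
    rw [hprod, List.map_cons, List.prod_cons, val_mul_mulVec, ← hprod,
      ih fun q hq => hL q (List.mem_cons_of_mem _ hq), Matrix.mulVec_smul,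
      hg_ev (hL p List.mem_cons_self) (zpow_ne_zero _ ht) ha, smul_smul, ← _root_.zpow_mul, ← zpow_add₀ ht]
    congr 2
    show dot L a + p.2 * ex p.1 a = p.2 * ex p.1 a + dot L a
    ring

theorem simples_lt {r : ℕ} (h : r ∈ simples) : r < 72 := by
  simp only [simples, List.mem_cons, List.not_mem_nil, or_false] at h
  omega

theorem hprod_mem (L : List (ℕ × ℤ)) (hL : ∀ p ∈ L, p.1 ∈ simples) (t : F) : hprod L t ∈ rootGp F :=
  list_prod_mem fun x hx => by
    obtain ⟨p, hp, rfl⟩ := List.mem_map.1 hx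
    exact hg_mem (simples_lt (hL p hp)) _

theorem formC_smul (u w x : I27 → F) (c : F) : formC u w (c • x) = c * formC u w x := by
  rw [formC, formC]
  induction six with
  | nil => simp [msum_nil]
  | cons m L ih =>
    simp only [msum, List.map_cons, List.sum_cons] at ih ⊢
    rw [ih, mval, mval, cd_smul]
    ring

theorem propagate {g : GL I27 F} (hg : g ∈ Cfsg.Lie.E6univ F) (hK : ∃ c : F, c ≠ 0 ∧ c ≠ 1)
    (hd : ∀ a < 27, ∃ c : F, c ≠ 0 ∧ g.val *ᵥ ev a = c • ev a) : ∀ (L : List (ℕ × ℕ × ℕ)) (acc : List ℕ),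
    (∀ a ∈ acc, g.val *ᵥ ev a = ev a) → okDiag L acc = true → ∀ a < 27, g.val *ᵥ ev a = ev a := by
  intro L
  induction L with
  | nil =>
    intro acc hacc h' a ha
    have h' : (kall (fun a => mem a acc) (krange 0 27)) = true := h'
    exact hacc a (mem_iff.1 (kall_krange h' a ha))
  | cons p L ih =>
    intro acc hacc h'
    have h'' : (mem p.1 acc && mem p.2.1 acc && Nat.blt p.1 27 && Nat.blt p.2.1 27 && Nat.blt p.2.2 27 &&
        single p.1 p.2.1 p.2.2 six) = true ∧ okDiag L (p.2.2 :: acc) = true := (Bool.and_eq_true _ _).mp h'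
    obtain ⟨hp, hrest⟩ := h''
    simp only [Bool.and_eq_true, blt_true, mem_iff] at hp
    obtain ⟨⟨⟨⟨⟨m1, m2⟩, l1⟩, l2⟩, l3⟩, hs⟩ := hp
    refine ih _ (fun a ha => ?_) hrest
    rcases List.mem_cons.1 ha with rfl | ha
    swap
    · exact hacc a ha
    obtain ⟨c, -, hc⟩ := hd p.2.2 l3
    obtain ⟨d, hd0, hd'⟩ := formC_ev_ev l1 l2 hs (ev p.2.2 : I27 → F)
    rw [cd_ev l3 l3, if_pos rfl, mul_one] at hd'
    have h := formC_inv hg hK (ev p.1) (ev p.2.1) (ev p.2.2)
    rw [hacc _ m1, hacc _ m2, hc, formC_smul, hd'] at h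
    rw [hc, (mul_eq_right₀ hd0).1 h, one_smul]

theorem normalise : ∀ (L : List (ℕ × List ℤ)), (∀ p ∈ L, p ∈ torusTab) → ∀ (acc : List ℕ) (g : GL I27 F),
    g ∈ Cfsg.Lie.E6univ F → (∀ a < 27, ∃ c : F, c ≠ 0 ∧ g.val *ᵥ ev a = c • ev a) → (∀ a ∈ acc, a < 27) →
    (∀ a ∈ acc, g.val *ᵥ ev a = ev a) → (∀ a ∈ acc, ∀ p ∈ L, dot (simples.zip p.2) a = 0) →
    (L.map fun p => p.1).Nodup →
    ∃ h ∈ rootGp F, (∀ a < 27, ∃ c : F, c ≠ 0 ∧ (h * g).val *ᵥ ev a = c • ev a) ∧
      ∀ a ∈ acc ++ L.map (fun p => p.1), (h * g).val *ᵥ ev a = ev a := by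
  intro L
  induction L with
  | nil =>
    intro _ acc g _ hd2 _ hone _ _
    exact ⟨1, one_mem _, by rw [one_mul]; exact hd2, fun a ha => by rw [one_mul]; exact hone a (by simpa using ha)⟩
  | cons p L ih =>
    intro hsub acc g hg2 hd2 hlt hone hzero hnd
    obtain ⟨hp1, hp, -⟩ : p.1 < 27 ∧ (dot (simples.zip p.2) p.1 = 1) ∧ True := by
      have := (kall_iff _ _).1 okDot_all p (hsub p List.mem_cons_self)
      simp only [Bool.and_eq_true, blt_true, decide_eq_true_eq] at this
      exact ⟨this.1.2, this.1.1, trivial⟩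
    obtain ⟨c, hc, hcp⟩ := hd2 p.1 hp1
    have hzip : ∀ q ∈ simples.zip p.2, q.1 ∈ simples := fun q hq => (List.of_mem_zip hq).1
    set k := hprod (simples.zip p.2) c⁻¹ with hk
    have hkm := hprod_mem (simples.zip p.2) hzip c⁻¹
    have hkev : ∀ a < 27, k.val *ᵥ ev a = (c⁻¹ ^ dot (simples.zip p.2) a) • ev a := fun a ha =>
      hprod_ev (inv_ne_zero hc) ha _ hzip
    rw [List.map_cons, List.nodup_cons] at hnd
    obtain ⟨h', hh', hres, hres'⟩ := ih (fun q hq => hsub q (List.mem_cons_of_mem _ hq)) (acc ++ [p.1]) (k * g)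
      (mul_mem (rootGp_le hkm) hg2) (fun a ha => by
        obtain ⟨d, hd, e⟩ := hd2 a ha
        refine ⟨d * c⁻¹ ^ dot (simples.zip p.2) a, mul_ne_zero hd (zpow_ne_zero _ (inv_ne_zero hc)), ?_⟩
        rw [val_mul_mulVec, e, Matrix.mulVec_smul, hkev a ha, smul_smul])
      (fun a ha => by
        rcases List.mem_append.1 ha with ha | ha
        · exact hlt a ha
        · rw [List.mem_singleton.1 ha]; exact hp1)
      (fun a ha => by
        rcases List.mem_append.1 ha with ha | ha
        · rw [val_mul_mulVec, hone a ha, hkev a (hlt a ha), hzero a ha p List.mem_cons_self, zpow_zero, one_smul]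
        · rw [List.mem_singleton.1 ha, val_mul_mulVec, hcp, Matrix.mulVec_smul, hkev _ hp1, hp, zpow_one,
            smul_smul, mul_inv_cancel₀ hc, one_smul])
      (fun a ha q hq => by
        rcases List.mem_append.1 ha with ha | ha
        · exact hzero a ha q (List.mem_cons_of_mem _ hq)
        · rw [List.mem_singleton.1 ha]
          have hne : q.1 ≠ p.1 := fun e => hnd.1 (List.mem_map.2 ⟨q, hq, e⟩)
          have hq' := (kall_iff _ _).1 okDot_all q (hsub q (List.mem_cons_of_mem _ hq))
          simp only [Bool.and_eq_true, decide_eq_true_eq, kall_iff, Bool.or_eq_true] at hq'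
          exact (hq'.2 p (hsub p List.mem_cons_self)).resolve_left fun e => hne (Nat.eq_of_beq_eq_true e).symm)
      hnd.2
    refine ⟨h' * k, mul_mem hh' hkm, fun a ha => by rw [mul_assoc]; exact hres a ha, fun a ha => ?_⟩
    rw [mul_assoc]
    exact hres' a (by simpa [List.map_cons, List.append_assoc] using ha)

theorem torusTab_nodup : (torusTab.map fun p => p.1).Nodup := by decide

theorem generated {g : GL I27 F} (hg' : g ∈ Cfsg.Lie.E6univ F) (hK : ∃ c : F, c ≠ 0 ∧ c ≠ 1) : g ∈ rootGp F := by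
  obtain ⟨h, hh, hd⟩ := to_diagonal hg' hK
  have hgd : h * g ∈ Cfsg.Lie.E6univ F := mul_mem (rootGp_le hh) hg'
  obtain ⟨k, hk, hkd, hone⟩ := normalise torusTab (fun p hp => hp) [] (h * g) hgd hd
    (fun a ha => absurd ha List.not_mem_nil) (fun a ha => absurd ha List.not_mem_nil)
    (fun a ha => absurd ha List.not_mem_nil) torusTab_nodup
  have hall := propagate (mul_mem (rootGp_le hk) hgd) hK hkd diagTab (torusTab.map fun p => p.1)
    (fun a ha => hone a (by simpa using ha)) okDiag_all
  have : k * (h * g) = 1 := Units.ext (Matrix.ext_of_mulVec_single fun x => by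
    obtain ⟨a, ha, rfl⟩ := cu_surj x
    rw [Units.val_one, Matrix.one_mulVec]
    exact hall a ha)
  rw [show g = h⁻¹ * k⁻¹ * (k * (h * g)) by group, this, mul_one]
  exact mul_mem (inv_mem hh) (inv_mem hk)

end Cfsg.Lib.Chev.E6Cubic
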